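import Mathlib
import Cfsg.Prelude.Def_SevenCases
import Cfsg.Agent.Lib.Cores
import Cfsg.Agent.ClassicalGeometry.HermOrtho
import Cfsg.Agent.ClassicalGeometry.PSUAutCount
import Cfsg.Agent.KFacts.Unit.Emb
import Cfsg.Agent.LieClassical.HermPerfect
import Cfsg.Agent.OddTab.Base
import Cfsg.Agent.ClassicalGeometry.PSUAutBasic
import Cfsg.Agent.LieClassical.Grun
import Cfsg.Agent.LieClassical.SUBasic
import Cfsg.Agent.LThree.Base
import Cfsg.Agent.SigTab.RestList_m3
import Cfsg.Agent.Prune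
set_option linter.all false

section
prune_inst 0x7f00000000000000000000000000000000000000000000000000000000000000000000000000000000000000000000000000000000000000000000000000000000000000000000000000000000000000003fffffffffffffffffffffffffffaeffbdffffffff

-- part: GpUn/Rank
section
set_option linter.all false
open scoped Cfsg.Agent.FastGrp

/-!
# `p`-rank lemmas (helper72, row GP-UN)
-/

set_option autoImplicit false

namespace Cfsg.Agent.GpUn

open Cfsg Subgroup

theorem card_map_of_ker {G H : Type*} [Group G] [Group H] (f : G →* H) (A : Subgroup G)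
    (h : ∀ a ∈ A, f a = 1 → a = 1) : Nat.card ↥(A.map f) = Nat.card ↥A := by
  have h1 : Function.Injective (f.comp A.subtype) := by
    rw [injective_iff_map_eq_one]
    intro a ha
    exact Subtype.ext (h a.1 a.2 ha)
  have h2 : A.map f = (f.comp A.subtype).range := by
    rw [MonoidHom.range_comp, Subgroup.range_subtype]
  rw [h2]
  exact (Nat.card_congr (MonoidHom.ofInjective h1).toEquiv).symm

/-- a commutative subgroup of exponent `p`, mapped into a subgroup -/
theorem pRank_of_map {G H : Type*} [Group G] [Group H] (f : G →* H) {p k : ℕ} (A : Subgroup G)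
    (hc : ∀ a ∈ A, ∀ b ∈ A, a * b = b * a) (hp : ∀ a ∈ A, a ^ p = 1) (hk : p ^ k ≤ Nat.card ↥A)
    (h : ∀ a ∈ A, f a = 1 → a = 1) {C : Subgroup H} (hC : ∀ a ∈ A, f a ∈ C) : PRankAtLeast p k ↥C := by
  have hle : A.map f ≤ C := by
    rintro _ ⟨a, ha, rfl⟩
    exact hC a ha
  refine ⟨(A.map f).subgroupOf C, ⟨⟨?_⟩⟩, ?_, ?_⟩
  · rintro ⟨⟨u, h1⟩, hu⟩ ⟨⟨v, h2⟩, hv⟩
    obtain ⟨a, ha, hau⟩ : ∃ a ∈ A, f a = u := mem_subgroupOf.1 hu
    obtain ⟨b, hb, hbv⟩ : ∃ b ∈ A, f b = v := mem_subgroupOf.1 hv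
    apply Subtype.ext
    apply Subtype.ext
    show u * v = v * u
    rw [← hau, ← hbv, ← map_mul, hc a ha b hb, map_mul]
  · rintro ⟨u, h1⟩ hu
    obtain ⟨a, ha, hau⟩ : ∃ a ∈ A, f a = u := mem_subgroupOf.1 hu
    apply Subtype.ext
    show u ^ p = 1
    rw [← hau, ← map_pow, hp a ha, map_one]
  · rw [Nat.card_congr (subgroupOfEquivOfLe hle).toEquiv, card_map_of_ker f A h]
    exact hk

theorem pRank_mk {K : Type*} [Group K] [Finite K] {p k : ℕ} [Fact p.Prime] (h : PRankAtLeast p k K) :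
    PRankAtLeast p k (K ⧸ pPrimeCore p K) := by
  obtain ⟨A, hA, hp, hk⟩ := h
  refine ⟨A.map (QuotientGroup.mk' (pPrimeCore p K)), ⟨⟨?_⟩⟩, ?_, ?_⟩
  · rintro ⟨_, a, ha, rfl⟩ ⟨_, b, hb, rfl⟩
    apply Subtype.ext
    show QuotientGroup.mk' (pPrimeCore p K) a * QuotientGroup.mk' (pPrimeCore p K) b = _
    have h1 : a * b = b * a := congrArg Subtype.val (hA.is_comm.comm ⟨a, ha⟩ ⟨b, hb⟩)
    rw [← map_mul, h1, map_mul]
    rfl
  · rintro _ ⟨a, ha, rfl⟩
    rw [← map_pow, hp a ha, map_one]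
  · rw [card_map_of_ker]
    · exact hk
    · intro a ha h1
      have h2 : a ∈ pPrimeCore p K := (QuotientGroup.eq_one_iff a).1 h1
      have h3 : (Nat.card ↥(pPrimeCore p K)).Coprime p := Lib.Cores.pPrimeCore_coprime p
      have h4 : orderOf a ∣ Nat.card ↥(pPrimeCore p K) := by
        have := orderOf_dvd_natCard (⟨a, h2⟩ : ↥(pPrimeCore p K))
        rwa [Subgroup.orderOf_mk] at this
      have h5 : orderOf a ∣ p := orderOf_dvd_of_pow_eq_one (hp a ha)
      exact orderOf_eq_one_iff.1 (Nat.eq_one_of_dvd_coprimes h3 h4 h5)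

theorem not_pRankLE_one {X : Type*} [Group X] {p : ℕ} (hp : p.Prime) (h : PRankAtLeast p 2 X) : ¬ PRankLE p 1 X := by
  obtain ⟨A, hA, hA2, hk⟩ := h
  intro h1
  have h2 := h1 A hA hA2
  have := hp.one_lt
  nlinarith [hk, h2, pow_one p]

theorem isPGroup_center_mk {K : Type*} [Group K] [Finite K] {p : ℕ} [Fact p.Prime] :
    IsPGroup p ↥(center (K ⧸ pPrimeCore p K)) := by
  rw [IsPGroup.iff_orderOf]
  rintro ⟨z, hz⟩
  rw [Subgroup.orderOf_mk]
  obtain ⟨a, m, hm, h⟩ := Nat.exists_eq_pow_mul_and_not_dvd (orderOf_pos z).ne' p (Fact.out : p.Prime).ne_one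
  have h1 : orderOf (z ^ p ^ a) = m := by
    rw [orderOf_pow, h, Nat.gcd_eq_right (Dvd.intro _ rfl), Nat.mul_div_cancel_left _ (pow_pos (Fact.out : p.Prime).pos _)]
  have hzc : z ^ p ^ a ∈ center (K ⧸ pPrimeCore p K) := pow_mem hz _
  have h2 : (Subgroup.zpowers (z ^ p ^ a)).Normal := by
    constructor
    intro n hn g
    have h3 : n ∈ center (K ⧸ pPrimeCore p K) := (Subgroup.zpowers_le.2 hzc) hn
    rw [Subgroup.mem_center_iff.1 h3 g, mul_inv_cancel_right]
    exact hn
  have h3 : Subgroup.zpowers (z ^ p ^ a) ≤ pPrimeCore p (K ⧸ pPrimeCore p K) := by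
    apply Lib.Cores.le_pPrimeCore h2
    rw [Nat.card_zpowers, h1]
    exact ((Nat.Prime.coprime_iff_not_dvd Fact.out).2 hm).symm
  rw [Lib.Cores.pPrimeCore_quotient_pPrimeCore, le_bot_iff, Subgroup.zpowers_eq_bot] at h3
  have h4 : m = 1 := by rw [← h1, h3, orderOf_one]
  exact ⟨a, by rw [h, h4, mul_one]⟩

end Cfsg.Agent.GpUn
end

-- part: GpUn/Row
section
set_option linter.all false
open scoped Cfsg.Agent.FastGrp

-- merged: Cfsg.Agent.GpUn.Base
section

/-!
# Fixed spaces and pointwise stabilisers in `SU n F q` (helper72, row GP-UN)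

* `fx g` : the fixed space of `g`; `fixG q W` : the pointwise stabiliser of `W`.
* `exists_equiv` : for `U` nondegenerate of dimension `m`, the pointwise stabiliser of `U^⊥` is `≅ SU m F q`.
* `nd_inf_fx` : the fixed points of an element of order prime to the characteristic on an invariant
  nondegenerate subspace form a nondegenerate subspace.
-/

set_option autoImplicit false
set_option linter.unusedSectionVars false

namespace Cfsg.Agent.GpUn

open Cfsg Module Matrix
open Cfsg.Agent.LieClassical.HermBasic Cfsg.Agent.LieClassical.HermSiegel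
open Cfsg.Agent.LieClassical.HermGen (fixGrp)
open Cfsg.Agent.ClassicalGeometry.HermOrtho
open Cfsg.Agent.ClassicalGeometry.PSUAutCount (gm guConj act_guConj gm_inv_mulVec gm_mulVec_inv herm_gm)
open Cfsg.Agent.KFacts.Unit (emb act_emb_c act_emb_n emb_fix emb_injective exists_emb)

variable {F : Type*} [Field F] {q n : ℕ}

/-- A nondegenerate subspace. -/
def ND (q : ℕ) (W : Submodule F (Fin n → F)) : Prop :=
  ∀ u ∈ W, (∀ v ∈ W, hermForm n F q u v = 0) → u = 0

/-- The fixed space of an element. -/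
def fx (g : SU n F q) : Submodule F (Fin n → F) where
  carrier := {v | act g v = v}
  add_mem' := fun {u v} hu hv => by
    have hu' : act g u = u := hu
    have hv' : act g v = v := hv
    show act g (u + v) = u + v
    rw [act_add, hu', hv']
  zero_mem' := act_zero g
  smul_mem' := fun c v hv => by
    have hv' : act g v = v := hv
    show act g (c • v) = c • v
    rw [act_smul, hv']

theorem mem_fx {g : SU n F q} {v : Fin n → F} : v ∈ fx g ↔ act g v = v := Iff.rfl

/-- The pointwise stabiliser of a subspace. -/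
def fixG (q : ℕ) (W : Submodule F (Fin n → F)) : Subgroup (SU n F q) where
  carrier := {g | ∀ w ∈ W, act g w = w}
  one_mem' := fun w _ => act_one w
  mul_mem' := fun {g h} hg hh w hw => by rw [act_mul, hh w hw, hg w hw]
  inv_mem' := fun {g} hg w hw => by
    have h1 := act_inv_act g w
    rwa [hg w hw] at h1

theorem mem_fixG {W : Submodule F (Fin n → F)} {g : SU n F q} :
    g ∈ fixG q W ↔ ∀ w ∈ W, act g w = w := Iff.rfl

theorem fixG_anti {W W' : Submodule F (Fin n → F)} (h : W ≤ W') : fixG q W' ≤ fixG q W :=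
  fun _ hg w hw => hg w (h hw)

theorem eq_one_of_top {g : SU n F q} (h : ∀ w, act g w = w) : g = 1 := by
  apply ext_act
  intro v
  rw [h, act_one]

section

variable [Fintype F]

/-- **The pointwise stabiliser of `U^⊥`.** -/
theorem exists_equiv (hF : Fintype.card F = q ^ 2) (U : Submodule F (Fin n → F)) (hU : ND q U) {m : ℕ}
    (hm : finrank F U = m) :
    Nonempty (SU m F q ≃* fixG q (hermPerp q (U : Set (Fin n → F)))) := by
  have hmn : m ≤ n := by
    have := Submodule.finrank_le U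
    rwa [hm, finrank_fin_fun] at this
  obtain ⟨d, rfl⟩ := Nat.exists_eq_add_of_le hmn
  obtain ⟨P, hP, hPU⟩ := exists_GU_adapted hF (finSumFinEquiv : Fin m ⊕ Fin d ≃ Fin (m + d)) U hU hm
  simp only [finSumFinEquiv_apply_right] at hPU
  set A : GU (m + d) F q := ⟨P, hP⟩ with hA
  have hAU : ∀ x : Fin (m + d) → F, gm A *ᵥ x ∈ U ↔ ∀ j : Fin d, x (Fin.natAdd m j) = 0 := hPU
  have hAperp : ∀ x : Fin (m + d) → F, gm A *ᵥ x ∈ hermPerp q (U : Set (Fin (m + d) → F)) ↔
      ∀ i : Fin m, x (Fin.castAdd d i) = 0 := by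
    intro x
    rw [mem_hermPerp]
    constructor
    · intro h i
      have h1 := h (gm A *ᵥ Pi.single (Fin.castAdd d i) 1) ((hAU _).2 (fun j => by
        apply Pi.single_eq_of_ne
        intro h
        have := congrArg Fin.val h
        rw [Fin.val_castAdd, Fin.val_natAdd] at this
        omega))
      rw [herm_gm, herm_single_right hF, one_pow, mul_one] at h1
      exact h1
    · intro h v hv
      rw [← gm_mulVec_inv A v] at hv ⊢
      rw [SetLike.mem_coe, hAU] at hv
      rw [herm_gm, herm_def, Fin.sum_univ_add]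
      rw [Finset.sum_eq_zero, Finset.sum_eq_zero, add_zero]
      · intro j _
        rw [hv j, zero_pow_q hF, mul_zero]
      · intro i _
        rw [h i, zero_mul]
  set f : SU m F q →* SU (m + d) F q := (guConj A).toMonoidHom.comp (emb d) with hf
  have hfa : ∀ (g : SU m F q) (x : Fin (m + d) → F), act (f g) x = gm A *ᵥ act (emb d g) (gm A⁻¹ *ᵥ x) :=
    fun g x => act_guConj A (emb d g) x
  have hinj : Function.Injective f := (guConj A).injective.comp emb_injective
  have hrange : f.range = fixG q (hermPerp q (U : Set (Fin (m + d) → F))) := by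
    ext g
    constructor
    · rintro ⟨a, rfl⟩ w hw
      rw [hfa]
      rw [← gm_mulVec_inv A w] at hw
      rw [SetLike.mem_coe.symm, SetLike.mem_coe, hAperp] at hw
      rw [emb_fix a hw, gm_mulVec_inv]
    · intro hg
      have h1 : guConj A⁻¹ g ∈ (fixGrp m : Subgroup (SU (m + d) F q)) := by
        intro i hi
        rw [act_guConj, inv_inv]
        rw [hg, gm_inv_mulVec]
        rw [hAperp]
        intro j
        apply Pi.single_eq_of_ne
        intro h
        have := congrArg Fin.val h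
        rw [Fin.val_castAdd] at this
        omega
      obtain ⟨a, ha⟩ := exists_emb hF h1
      refine ⟨a, ?_⟩
      apply ext_act
      intro v
      rw [hfa, ha, act_guConj, inv_inv, gm_mulVec_inv, gm_mulVec_inv]
  exact ⟨(MonoidHom.ofInjective hinj).trans (MulEquiv.subgroupCongr hrange)⟩

omit [Fintype F] in
/-- Averaging. -/
theorem avg_mem {p : ℕ} {x : SU n F q} (hx : x ^ p = 1) (v : Fin n → F) :
    ∑ i ∈ Finset.range p, act (x ^ i) v ∈ fx x := by
  rcases Nat.eq_zero_or_pos p with rfl | hp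
  · simp
  · rw [mem_fx, act_sum]
    obtain ⟨k, rfl⟩ : ∃ k, p = k + 1 := ⟨p - 1, by omega⟩
    have h1 : ∀ i, act x (act (x ^ i) v) = act (x ^ (i + 1)) v := by
      intro i
      rw [← act_mul, pow_succ']
    simp only [h1]
    rw [Finset.sum_range_succ, hx, Finset.sum_range_succ', pow_zero]

omit [Fintype F] in
/-- invariance under powers -/
theorem act_pow_mem {U : Submodule F (Fin n → F)} {x : SU n F q} (hU : ∀ u ∈ U, act x u ∈ U) (i : ℕ)
    {u : Fin n → F} (hu : u ∈ U) : act (x ^ i) u ∈ U := by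
  induction i with
  | zero => rw [pow_zero, act_one]; exact hu
  | succ i ih => rw [pow_succ', act_mul]; exact hU _ ih

omit [Fintype F] in
theorem act_pow_fix {x : SU n F q} (i : ℕ) {u : Fin n → F} (hu : act x u = u) : act (x ^ i) u = u := by
  induction i with
  | zero => rw [pow_zero, act_one]
  | succ i ih => rw [pow_succ', act_mul, ih, hu]

/-- **Fixed points on a nondegenerate subspace are nondegenerate.** -/
theorem nd_inf_fx (hF : Fintype.card F = q ^ 2) {p : ℕ} (hp : (p : F) ≠ 0) {U : Submodule F (Fin n → F)}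
    (hU : ND q U) {x : SU n F q} (hx : x ^ p = 1) (hUx : ∀ u ∈ U, act x u ∈ U) : ND q (U ⊓ fx x) := by
  intro u hu h
  apply hU u hu.1
  intro v hv
  have hs := h (∑ i ∈ Finset.range p, act (x ^ i) v)
    ⟨U.sum_mem fun i _ => act_pow_mem hUx i hv, avg_mem hx v⟩
  rw [herm_sum_right hF] at hs
  have h1 : ∀ i ∈ Finset.range p, hermForm n F q u (act (x ^ i) v) = hermForm n F q u v := by
    intro i _
    conv_lhs => rw [← act_pow_fix i (mem_fx.1 hu.2)]
    rw [herm_act]
  rw [Finset.sum_congr rfl h1, Finset.sum_const, Finset.card_range, nsmul_eq_mul] at hs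
  exact (mul_eq_zero.1 hs).resolve_left hp

omit [Fintype F] in
/-- an element normalising `U` normalises `U^⊥` -/
theorem act_perp {U : Submodule F (Fin n → F)} {x : SU n F q} (hU : ∀ u ∈ U, act x⁻¹ u ∈ U)
    {w : Fin n → F} (hw : w ∈ hermPerp q (U : Set (Fin n → F))) :
    act x w ∈ hermPerp q (U : Set (Fin n → F)) := by
  intro v hv
  rw [herm_act_left]
  exact hw _ (hU v hv)

theorem nd_top (hF : Fintype.card F = q ^ 2) : ND q (⊤ : Submodule F (Fin n → F)) :=
  fun _ _ h => herm_nondeg hF fun v => h v trivial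

end

end Cfsg.Agent.GpUn

end

-- merged: Cfsg.Agent.GpUn.Chain
section

/-!
# Elementary abelian subgroups of `SU n F q` of order prime to `q + 1` (helper72, row GP-UN)

`exists_good` : if `P ≤ SU n F q` is commutative of exponent `p`, `p ∤ char F`, `p ∤ q + 1` and `p ^ 4 ≤ |P|`,
then some `1 ≠ x ∈ P` has a fixed space of dimension at least 6 on which `P` induces a group of order at least `p ^ 3`.
-/

set_option autoImplicit false
set_option linter.unusedSectionVars false

namespace Cfsg.Agent.GpUn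

open Cfsg Module Matrix
open Cfsg.Agent.LieClassical.HermBasic Cfsg.Agent.LieClassical.HermSiegel
open Cfsg.Agent.ClassicalGeometry.HermOrtho

variable {F : Type*} [Field F] {q n : ℕ}

theorem pow_val_add {G : Type*} [Group G] {p : ℕ} [NeZero p] {y : G} (hy : y ^ p = 1) (a b : ZMod p) :
    y ^ (a + b).val = y ^ a.val * y ^ b.val := by
  rw [ZMod.val_add, ← pow_eq_pow_mod _ hy, pow_add]

theorem pow_val_mul {G : Type*} [Group G] {p : ℕ} {y : G} (hy : y ^ p = 1) (a b : ZMod p) :
    y ^ (a * b).val = y ^ (a.val * b.val) := by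
  rw [ZMod.val_mul, ← pow_eq_pow_mod _ hy]

section

variable {p : ℕ} [Fact p.Prime]

theorem sum_fix {y : SU n F q} (hy : y ^ p = 1) (w : Fin n → F) :
    ∑ a : ZMod p, act (y ^ a.val) w ∈ fx y := by
  rw [mem_fx, act_sum]
  have h1 : ∀ a : ZMod p, act y (act (y ^ a.val) w) = act (y ^ (1 + a).val) w := by
    intro a
    rw [pow_val_add hy, act_mul]
    congr 2
    rcases eq_or_ne p 1 with h | h
    · exact absurd h (Fact.out : p.Prime).one_lt.ne'
    · have : Fact (1 < p) := ⟨(Fact.out : p.Prime).one_lt⟩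
      rw [ZMod.val_one, pow_one]
  simp only [h1]
  exact Fintype.sum_equiv (Equiv.addLeft (1 : ZMod p)) _ _ (fun a => rfl)

/-- Two commuting elements all of whose combinations act without fixed points. -/
theorem eq_bot_of_free (hp : (p : F) ≠ 0) {y z : SU n F q} (hyz : y * z = z * y) (hy : y ^ p = 1) (hz : z ^ p = 1)
    (W : Submodule F (Fin n → F)) (hWy : ∀ w ∈ W, act y w ∈ W) (hWz : ∀ w ∈ W, act z w ∈ W)
    (h1 : ∀ i : ZMod p, W ⊓ fx (y * z ^ i.val) = ⊥) (h2 : W ⊓ fx z = ⊥) : W = ⊥ := by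
  rw [Submodule.eq_bot_iff]
  intro w hw
  have hcomm : Commute y z := hyz
  have hinv : ∀ (a : ℕ) (b : ℕ) (v : Fin n → F), v ∈ W → act (y ^ a * z ^ b) v ∈ W := by
    intro a b v hv
    rw [act_mul]
    exact act_pow_mem hWy a (act_pow_mem hWz b hv)
  have hT : ∑ b : ZMod p, act (z ^ b.val) w = 0 := by
    have h3 : ∑ b : ZMod p, act (z ^ b.val) w ∈ W ⊓ fx z :=
      ⟨W.sum_mem fun b _ => act_pow_mem hWz _ hw, sum_fix hz w⟩
    rw [h2] at h3
    exact h3
  have hTi : ∀ i : ZMod p, ∑ a : ZMod p, act ((y * z ^ i.val) ^ a.val) w = 0 := by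
    intro i
    have hc : Commute y (z ^ i.val) := hcomm.pow_right _
    have h3 : ∑ a : ZMod p, act ((y * z ^ i.val) ^ a.val) w ∈ W ⊓ fx (y * z ^ i.val) := by
      refine ⟨W.sum_mem fun a _ => ?_, sum_fix ?_ w⟩
      · rw [hc.mul_pow, ← pow_mul]
        exact hinv _ _ _ hw
      · rw [hc.mul_pow, hy, ← pow_mul, mul_comm i.val, pow_mul, hz, one_pow, one_mul]
    rw [h1 i] at h3
    exact h3
  have h3 : ∀ i a : ZMod p, act ((y * z ^ i.val) ^ a.val) w = act (y ^ a.val) (act (z ^ (a * i).val) w) := by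
    intro i a
    rw [(hcomm.pow_right _).mul_pow, act_mul, ← pow_mul, pow_val_mul hz, mul_comm i.val]
  have h4 : ∑ i : ZMod p, ∑ a : ZMod p, act (y ^ a.val) (act (z ^ (a * i).val) w) = 0 := by
    rw [Finset.sum_eq_zero]
    intro i _
    rw [← hTi i]
    exact Finset.sum_congr rfl fun a _ => (h3 i a).symm
  rw [Finset.sum_comm] at h4
  have h5 : ∀ a : ZMod p, a ≠ 0 → ∑ i : ZMod p, act (y ^ a.val) (act (z ^ (a * i).val) w) = 0 := by
    intro a ha
    have h6 : ∑ i : ZMod p, act (z ^ (a * i).val) w = ∑ b : ZMod p, act (z ^ b.val) w :=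
      Fintype.sum_equiv (Equiv.mulLeft₀ a ha) _ _ (fun i => rfl)
    rw [← act_sum, h6, hT, act_zero]
  rw [Finset.sum_eq_single 0 (fun a _ ha => h5 a ha) (fun h => absurd (Finset.mem_univ _) h)] at h4
  simp only [ZMod.val_zero, pow_zero, act_one, zero_mul, Finset.sum_const, Finset.card_univ, ZMod.card] at h4
  have h7 : (p : F) • w = 0 := by
    rw [← h4, Nat.cast_smul_eq_nsmul]
  exact (smul_eq_zero.1 h7).resolve_left hp

end

section

variable [Fintype F]

/-- decomposition of an intermediate subspace -/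
theorem exists_dec (hF : Fintype.card F = q ^ 2) {U U' : Submodule F (Fin n → F)} (hU' : ND q U') (hle : U' ≤ U)
    {v : Fin n → F} (hv : v ∈ U) :
    ∃ a ∈ U', ∃ b ∈ U ⊓ hermPerp q (U' : Set (Fin n → F)), v = a + b := by
  obtain ⟨a, ha, b, hb, rfl⟩ := exists_add_perp hF U' hU' v
  refine ⟨a, ha, b, ⟨?_, hb⟩, rfl⟩
  have := U.sub_mem hv (hle ha)
  rwa [add_sub_cancel_left] at this

theorem finrank_dec (hF : Fintype.card F = q ^ 2) {U U' : Submodule F (Fin n → F)} (hU' : ND q U') (hle : U' ≤ U) :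
    finrank F U' + finrank F (U ⊓ hermPerp q (U' : Set (Fin n → F)) : Submodule F (Fin n → F)) = finrank F U := by
  have h1 : U' ⊔ (U ⊓ hermPerp q (U' : Set (Fin n → F))) = U := by
    apply le_antisymm (sup_le hle inf_le_left)
    intro v hv
    obtain ⟨a, ha, b, hb, rfl⟩ := exists_dec hF hU' hle hv
    exact Submodule.add_mem_sup ha hb
  have h2 : U' ⊓ (U ⊓ hermPerp q (U' : Set (Fin n → F))) = ⊥ := by
    rw [Submodule.eq_bot_iff]
    rintro v ⟨h3, -, h4⟩
    exact hU' v h3 h4
  have h3 := Submodule.finrank_sup_add_finrank_inf_eq U' (U ⊓ hermPerp q (U' : Set (Fin n → F)))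
  rw [h1, h2, finrank_bot, add_zero] at h3
  exact h3.symm

theorem nd_dec (hF : Fintype.card F = q ^ 2) {U U' : Submodule F (Fin n → F)} (hU : ND q U) (hU' : ND q U')
    (hle : U' ≤ U) : ND q (U ⊓ hermPerp q (U' : Set (Fin n → F))) := by
  intro u hu h
  apply hU u hu.1
  intro v hv
  obtain ⟨a, ha, b, hb, rfl⟩ := exists_dec hF hU' hle hv
  rw [herm_add_right hF, hu.2 a ha, h b hb, add_zero]

/-- The step. -/
theorem step (hF : Fintype.card F = q ^ 2) {p : ℕ} [Fact p.Prime] (hp : (p : F) ≠ 0) (hpq : p.Coprime (q + 1))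
    {P : Subgroup (SU n F q)} (hPc : ∀ a ∈ P, ∀ b ∈ P, a * b = b * a) (hPp : ∀ a ∈ P, a ^ p = 1)
    {U : Submodule F (Fin n → F)} (hU : ND q U) (hUP : ∀ g ∈ P, ∀ u ∈ U, act g u ∈ U)
    (hne : ∃ x ∈ P, x ∉ fixG q U) :
    ∃ x ∈ P, x ∉ fixG q U ∧ ND q (U ⊓ fx x) ∧ (∀ g ∈ P, ∀ u ∈ U ⊓ fx x, act g u ∈ U ⊓ fx x) ∧
      Nat.card (P ⊓ fixG q (U ⊓ fx x) : Subgroup (SU n F q)) ≤
        p * Nat.card (P ⊓ fixG q U : Subgroup (SU n F q)) ∧
      finrank F (U ⊓ fx x : Submodule F (Fin n → F)) + 2 ≤ finrank F U := by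
  classical
  have hP0 := (Fact.out : p.Prime)
  -- choose `x`
  obtain ⟨x, ⟨hxP, hxU⟩, hmax⟩ : ∃ x, (x ∈ P ∧ x ∉ fixG q U) ∧ ∀ y, (y ∈ P ∧ y ∉ fixG q U) →
      finrank F (U ⊓ fx y : Submodule F (Fin n → F)) ≤ finrank F (U ⊓ fx x : Submodule F (Fin n → F)) := by
    have hfin : {x | x ∈ P ∧ x ∉ fixG q U}.Finite := Set.toFinite _
    obtain ⟨x, hx, h⟩ := hfin.exists_maximalFor (fun y => finrank F (U ⊓ fx y : Submodule F (Fin n → F))) _ hne
    exact ⟨x, hx, fun y hy => (le_total _ _).elim id fun h1 => h hy h1⟩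
  set U' : Submodule F (Fin n → F) := U ⊓ fx x with hU'def
  have hU' : ND q U' := nd_inf_fx hF hp hU (hPp x hxP) (hUP x hxP)
  have hU'P : ∀ g ∈ P, ∀ u ∈ U', act g u ∈ U' := by
    intro g hg u hu
    refine ⟨hUP g hg u hu.1, ?_⟩
    show act x (act g u) = act g u
    rw [← act_mul, hPc x hxP g hg, act_mul, mem_fx.1 hu.2]
  have hle : U' ≤ U := inf_le_left
  set W : Submodule F (Fin n → F) := U ⊓ hermPerp q (U' : Set (Fin n → F)) with hWdef
  have hWP : ∀ g ∈ P, ∀ w ∈ W, act g w ∈ W := fun g hg w hw =>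
    ⟨hUP g hg w hw.1, act_perp (fun u hu => hU'P _ (P.inv_mem hg) u hu) hw.2⟩
  have hWne : W ≠ ⊥ := by
    intro h
    apply hxU
    intro u hu
    obtain ⟨a, ha, b, hb, rfl⟩ := exists_dec hF hU' hle hu
    rw [← hWdef, h, Submodule.mem_bot] at hb
    rw [hb, add_zero]
    exact ha.2
  have hfree : ∀ c ∈ P, c ∉ fixG q U → c ∈ fixG q U' → W ⊓ fx c = ⊥ := by
    intro c hc hcU hcU'
    have h1 : U' ≤ U ⊓ fx c := le_inf hle hcU'
    have h2 : U' = U ⊓ fx c := Submodule.eq_of_le_of_finrank_le h1 (hmax c ⟨hc, hcU⟩)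
    rw [Submodule.eq_bot_iff]
    rintro w ⟨hw, hwc⟩
    have h3 : w ∈ U' := by
      rw [h2]
      exact ⟨hw.1, hwc⟩
    exact hU' w h3 hw.2
  refine ⟨x, hxP, hxU, hU', hU'P, ?_, ?_⟩
  · by_contra hcard
    push Not at hcard
    rw [← hU'def] at hcard
    -- an element `z` outside `⟨x⟩ C_P(U)`
    obtain ⟨z, hzN, hz⟩ : ∃ z ∈ P ⊓ fixG q U', ∀ (i : ZMod p) (c : SU n F q), c ∈ P ⊓ fixG q U →
        z ≠ x ^ i.val * c := by
      by_contra hcon
      push Not at hcon
      have h1 : Function.Surjective (fun a : ZMod p × (P ⊓ fixG q U : Subgroup (SU n F q)) =>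
          (⟨x ^ a.1.val * a.2, (P ⊓ fixG q U').mul_mem
            ((P ⊓ fixG q U').pow_mem (show x ∈ P ⊓ fixG q U' from ⟨hxP, fun u hu => hu.2⟩) _)
            ⟨a.2.2.1, fixG_anti hle a.2.2.2⟩⟩ : (P ⊓ fixG q U' : Subgroup (SU n F q)))) := by
        rintro ⟨z, hz⟩
        obtain ⟨i, c, hc, h⟩ := hcon z hz
        exact ⟨(i, ⟨c, hc⟩), Subtype.ext h.symm⟩
      have h2 := Nat.card_le_card_of_surjective _ h1
      rw [Nat.card_prod, Nat.card_zmod] at h2
      omega
    have hzx : Commute x z := hPc x hxP z hzN.1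
    have hxN : x ∈ P ⊓ fixG q U' := ⟨hxP, fun u hu => hu.2⟩
    have hz1 : z ∉ fixG q U := by
      intro h
      refine hz 0 z ⟨hzN.1, h⟩ ?_
      rw [ZMod.val_zero, pow_zero, one_mul]
    apply hWne
    refine eq_bot_of_free (p := p) hp hzx (hPp x hxP) (hPp z hzN.1) W (hWP x hxP) (hWP z hzN.1) ?_
      (hfree z hzN.1 hz1 hzN.2)
    intro i
    have hmemN : x * z ^ i.val ∈ P ⊓ fixG q U' := (P ⊓ fixG q U').mul_mem hxN ((P ⊓ fixG q U').pow_mem hzN _)
    refine hfree _ hmemN.1 ?_ hmemN.2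
    intro hfix
    rcases eq_or_ne i 0 with rfl | hi
    · rw [ZMod.val_zero, pow_zero, mul_one] at hfix
      exact hxU hfix
    · set c : SU n F q := x * z ^ i.val with hc
      have hcP : c ∈ P ⊓ fixG q U := ⟨hmemN.1, hfix⟩
      refine hz (-i⁻¹) (c ^ (i⁻¹).val) ((P ⊓ fixG q U).pow_mem hcP _) ?_
      rw [hc, (hzx.pow_right _).mul_pow, ← pow_mul, ← pow_val_mul (hPp z hzN.1), mul_inv_cancel₀ hi, ← mul_assoc,
        ← pow_val_add (hPp x hxP), neg_add_cancel, ZMod.val_zero, pow_zero, one_mul]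
      have : Fact (1 < p) := ⟨hP0.one_lt⟩
      rw [ZMod.val_one, pow_one]
  · rw [← hU'def]
    have h1 := finrank_dec hF hU' hle
    rw [← hWdef] at h1
    have hW0 : finrank F W ≠ 0 := by
      intro h
      exact hWne (Submodule.finrank_eq_zero.1 h)
    have hW1 : finrank F W ≠ 1 := by
      intro h
      obtain ⟨⟨w, hwW⟩, hw0, hspan⟩ := finrank_eq_one_iff'.1 h
      have hw0' : w ≠ 0 := fun h => hw0 (Subtype.ext h)
      obtain ⟨c, hc⟩ := hspan ⟨act x w, hWP x hxP w hwW⟩
      have hc' : c • w = act x w := congrArg Subtype.val hc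
      have hww : hermForm n F q w w ≠ 0 := by
        intro h
        apply hw0'
        apply nd_dec hF hU hU' hle w hwW
        intro v hv
        obtain ⟨d, hd⟩ := hspan ⟨v, hv⟩
        have hd' : d • w = v := congrArg Subtype.val hd
        rw [← hd', herm_smul_right, h, mul_zero]
      have hcq : c ^ (q + 1) = 1 := by
        have h3 := herm_act x w w
        rw [← hc', herm_smul_left, herm_smul_right, ← mul_assoc] at h3
        have h4 : c * c ^ q = 1 := mul_right_cancel₀ hww (by rw [h3, one_mul])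
        rwa [pow_succ']
      have hcp : c ^ p = 1 := by
        have h3 : ∀ k : ℕ, act (x ^ k) w = c ^ k • w := by
          intro k
          induction k with
          | zero => rw [pow_zero, act_one, pow_zero, one_smul]
          | succ k ih => rw [pow_succ', act_mul, ih, act_smul, ← hc', smul_smul, ← pow_succ]
        have h4 := h3 p
        rw [hPp x hxP, act_one] at h4
        have h5 : (c ^ p - 1) • w = 0 := by rw [sub_smul, one_smul, ← h4, sub_self]
        exact sub_eq_zero.1 ((smul_eq_zero.1 h5).resolve_right hw0')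
      have hc1 : c = 1 := by
        have h3 : orderOf c ∣ Nat.gcd p (q + 1) := Nat.dvd_gcd (orderOf_dvd_of_pow_eq_one hcp)
          (orderOf_dvd_of_pow_eq_one hcq)
        rw [hpq] at h3
        exact orderOf_eq_one_iff.1 (Nat.dvd_one.1 h3)
      rw [hc1, one_smul] at hc'
      have h6 : w ∈ U' := ⟨hwW.1, hc'.symm⟩
      exact hw0' (hU' w h6 hwW.2)
    omega

theorem chain (hF : Fintype.card F = q ^ 2) {p : ℕ} [Fact p.Prime] (hp : (p : F) ≠ 0) (hpq : p.Coprime (q + 1))
    {P : Subgroup (SU n F q)} (hPc : ∀ a ∈ P, ∀ b ∈ P, a * b = b * a) (hPp : ∀ a ∈ P, a ^ p = 1) (r : ℕ) :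
    ∀ U : Submodule F (Fin n → F), ND q U → (∀ g ∈ P, ∀ u ∈ U, act g u ∈ U) →
      p ^ r * Nat.card (P ⊓ fixG q U : Subgroup (SU n F q)) ≤ Nat.card P → 2 * r ≤ finrank F U := by
  have hP0 := (Fact.out : p.Prime)
  induction r with
  | zero => intro U _ _ _; omega
  | succ r ih =>
    intro U hU hUP hcard
    have hpos : 0 < Nat.card (P ⊓ fixG q U : Subgroup (SU n F q)) := Nat.card_pos
    have hne : ∃ x ∈ P, x ∉ fixG q U := by
      by_contra hcon
      push Not at hcon
      have h1 : P ⊓ fixG q U = P := inf_eq_left.2 hcon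
      rw [h1] at hcard hpos
      have h2 : 1 < p ^ (r + 1) := Nat.one_lt_pow (by omega) hP0.one_lt
      nlinarith only [hcard, hpos, h2]
    obtain ⟨x, hxP, hxU, hU', hU'P, hc, hd⟩ := step hF hp hpq hPc hPp hU hUP hne
    have h1 := ih _ hU' hU'P (by
      calc p ^ r * Nat.card (P ⊓ fixG q (U ⊓ fx x) : Subgroup (SU n F q))
          ≤ p ^ r * (p * Nat.card (P ⊓ fixG q U : Subgroup (SU n F q))) := Nat.mul_le_mul_left _ hc
        _ = p ^ (r + 1) * Nat.card (P ⊓ fixG q U : Subgroup (SU n F q)) := by ring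
        _ ≤ Nat.card P := hcard)
    omega

/-- **A good element.** -/
theorem exists_good (hF : Fintype.card F = q ^ 2) {p : ℕ} [Fact p.Prime] (hp : (p : F) ≠ 0) (hpq : p.Coprime (q + 1))
    {P : Subgroup (SU n F q)} (hPc : ∀ a ∈ P, ∀ b ∈ P, a * b = b * a) (hPp : ∀ a ∈ P, a ^ p = 1)
    (hP4 : p ^ 4 ≤ Nat.card P) :
    ∃ x ∈ P, x ≠ 1 ∧ ND q (fx x) ∧ 6 ≤ finrank F (fx x) ∧
      p ^ 3 * Nat.card (P ⊓ fixG q (fx x) : Subgroup (SU n F q)) ≤ Nat.card P := by
  have hP0 := (Fact.out : p.Prime)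
  have htop : P ⊓ fixG q (⊤ : Submodule F (Fin n → F)) = ⊥ := by
    rw [Subgroup.eq_bot_iff_forall]
    rintro g ⟨-, hg⟩
    exact eq_one_of_top fun w => hg w trivial
  have hne : ∃ x ∈ P, x ∉ fixG q (⊤ : Submodule F (Fin n → F)) := by
    by_contra hcon
    push Not at hcon
    have h1 : P ⊓ fixG q (⊤ : Submodule F (Fin n → F)) = P := inf_eq_left.2 hcon
    rw [htop] at h1
    rw [← h1, Subgroup.card_bot] at hP4
    have h2 : 1 < p ^ 4 := Nat.one_lt_pow (by omega) hP0.one_lt
    omega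
  obtain ⟨x, hxP, hxU, hU', hU'P, hc, hd⟩ := step hF hp hpq hPc hPp (nd_top hF) (fun g _ u _ => trivial) hne
  rw [top_inf_eq] at hU' hU'P hc hd
  rw [htop, Subgroup.card_bot, mul_one] at hc
  have h3 : p ^ 3 * Nat.card (P ⊓ fixG q (fx x) : Subgroup (SU n F q)) ≤ Nat.card P :=
    calc p ^ 3 * Nat.card (P ⊓ fixG q (fx x) : Subgroup (SU n F q)) ≤ p ^ 3 * p := Nat.mul_le_mul_left _ hc
      _ = p ^ 4 := by ring
      _ ≤ Nat.card P := hP4
  refine ⟨x, hxP, ?_, hU', ?_, h3⟩
  · rintro rfl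
    exact hxU fun w _ => act_one w
  · exact chain hF hp hpq hPc hPp 3 _ hU' hU'P h3

end

end Cfsg.Agent.GpUn

end

-- merged: Cfsg.Agent.GpUn.Comp
section

/-!
# Components of centralizers in `PSU n F q` (helper72, row GP-UN)

* `comp` : the image in `PSU n F q` of the pointwise stabiliser of `U^⊥` (`U` nondegenerate of dimension `m ≥ 3`,
  `m < n`) is a component `≅ SU m F q` of `C(x)`, if it centralizes `x` and `U` is invariant under the preimage of `C(x)`.
* `lpo_of_comp` : so some element of `L_p°(PSU n F q)` is a cover of `PSU m F q` with centre a `p`-group.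
-/

set_option autoImplicit false

namespace Cfsg.Agent.GpUn

open Cfsg Module Matrix Subgroup
open Cfsg.Agent.LieClassical.HermBasic Cfsg.Agent.LieClassical.HermSiegel
open Cfsg.Agent.ClassicalGeometry.HermOrtho
open Cfsg.Agent.ClassicalGeometry.PSUAutBasic

universe u

variable {F : Type u} [Field F] [Fintype F] {q n : ℕ}

theorem perfect_SU (hF : Fintype.card F = q ^ 2) {m : ℕ} (hm : 3 ≤ m) (h32 : ¬ (m = 3 ∧ q = 2)) :
    commutator (SU m F q) = ⊤ :=
  LieClassical.HermPerfect.commutator_SU_eq_top hF hm h32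

theorem quasi_SU (hF : Fintype.card F = q ^ 2) {m : ℕ} (hm : 3 ≤ m) (h32 : ¬ (m = 3 ∧ q = 2)) :
    IsQuasisimple (SU m F q) :=
  ⟨⟨perfect_SU hF hm h32⟩, LieClassical.HermSimple.isSimpleGroup_of_perfect hF hm (perfect_SU hF hm h32)⟩

/-- the component of `C(x)` attached to `U` -/
def kgrp (q : ℕ) (U : Submodule F (Fin n → F)) : Subgroup (PSU n F q) :=
  (fixG q (hermPerp q (U : Set (Fin n → F)))).map (pr n F q)

theorem ker_fixG (hF : Fintype.card F = q ^ 2) (hn : 3 ≤ n) {W : Submodule F (Fin n → F)} (hW : W ≠ ⊥)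
    {g : SU n F q} (hg : g ∈ fixG q W) (h1 : pr n F q g = 1) : g = 1 := by
  obtain ⟨w, hw, hw0⟩ := Submodule.exists_mem_ne_zero_of_ne_bot hW
  obtain ⟨c, -, -, hc⟩ := exists_scalar_of_mem_center hF hn (pr_eq_one_iff.1 h1)
  have h2 := hg w hw
  rw [hc] at h2
  have h3 : c = 1 := by
    have h4 : (c - 1) • w = 0 := by rw [sub_smul, h2, one_smul, sub_self]
    exact sub_eq_zero.1 ((smul_eq_zero.1 h4).resolve_right hw0)
  apply ext_act
  intro v
  rw [hc, h3, one_smul, act_one]

theorem perp_ne_bot (hF : Fintype.card F = q ^ 2) {U : Submodule F (Fin n → F)} (hU : ND q U)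
    (hmn : finrank F U < n) : hermPerp q (U : Set (Fin n → F)) ≠ ⊥ := by
  intro h
  have h1 := finrank_dec hF hU (le_top : U ≤ ⊤)
  rw [top_inf_eq, h, finrank_bot, finrank_top, finrank_fin_fun] at h1
  omega

theorem kgrp_equiv (hF : Fintype.card F = q ^ 2) (hn : 3 ≤ n) {U : Submodule F (Fin n → F)} (hU : ND q U)
    {m : ℕ} (hm : finrank F U = m) (hmn : m < n) : Nonempty (SU m F q ≃* ↥(kgrp q U)) := by
  obtain ⟨e⟩ := exists_equiv hF U hU hm
  refine ⟨e.trans ?_⟩
  have h1 : Function.Injective ((pr n F q).comp (fixG q (hermPerp q (U : Set (Fin n → F)))).subtype) := by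
    rw [injective_iff_map_eq_one]
    intro a ha
    exact Subtype.ext (ker_fixG hF hn (perp_ne_bot hF hU (hm ▸ hmn)) a.2 ha)
  refine (MonoidHom.ofInjective h1).trans (MulEquiv.subgroupCongr ?_)
  rw [MonoidHom.range_comp, Subgroup.range_subtype]
  rfl

theorem act_mem_iff {U : Submodule F (Fin n → F)} {g : SU n F q} (h : ∀ u ∈ U, act g u ∈ U) :
    ∀ u ∈ U, act g⁻¹ u ∈ U := by
  intro u hu
  have hfin : IsOfFinOrder g := isOfFinOrder_of_finite g
  obtain ⟨k, hk⟩ : ∃ k : ℕ, g ^ k = g⁻¹ := by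
    obtain ⟨k, hk, h1⟩ := hfin.exists_pow_eq_one
    refine ⟨k - 1, ?_⟩
    rw [eq_inv_iff_mul_eq_one, ← pow_succ]
    rwa [Nat.sub_add_cancel (by omega)]
  rw [← hk]
  exact act_pow_mem h k hu

/-- **The component.** -/
theorem comp (hF : Fintype.card F = q ^ 2) (hn : 3 ≤ n) {U : Submodule F (Fin n → F)} (hU : ND q U)
    {m : ℕ} (hm : finrank F U = m) (hm3 : 3 ≤ m) (h32 : ¬ (m = 3 ∧ q = 2)) (hmn : m < n) {x : PSU n F q}
    (hx : ∀ g ∈ fixG q (hermPerp q (U : Set (Fin n → F))), pr n F q g * x = x * pr n F q g)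
    (hx2 : ∀ g : SU n F q, pr n F q g * x = x * pr n F q g → ∀ u ∈ U, act g u ∈ U) :
    IsComponentOf (kgrp q U) (centralizer ({x} : Set (PSU n F q))) := by
  obtain ⟨e⟩ := kgrp_equiv hF hn hU hm hmn
  refine OddTab.isComponentOf_of_normalized ?_
    (SignalizersComponents.Components.isQuasisimple_of_mulEquiv e (quasi_SU hF hm3 h32)) ?_
  · rintro _ ⟨g, hg, rfl⟩
    rw [mem_centralizer_singleton_iff]
    exact hx g hg
  · intro g hg
    obtain ⟨g, rfl⟩ := pr_surjective (n := n) (F := F) (q := q) g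
    rw [mem_centralizer_singleton_iff] at hg
    have h1 := hx2 g hg
    rintro _ ⟨k, hk, rfl⟩
    refine ⟨g * k * g⁻¹, ?_, by rw [map_mul, map_mul, map_inv]⟩
    intro w hw
    have h2 : act g⁻¹ w ∈ hermPerp q (U : Set (Fin n → F)) := act_perp (by rwa [inv_inv]) hw
    rw [act_mul, act_mul, hk _ h2, act_act_inv]

/-- **An element of `L_p°`.** -/
theorem lpo_of_comp (hF : Fintype.card F = q ^ 2) (hn : 3 ≤ n) {p : ℕ} [Fact p.Prime] (hp2 : p ≠ 2)
    {U : Submodule F (Fin n → F)} (hU : ND q U) {m : ℕ} (hm : finrank F U = m) (hm3 : 3 ≤ m)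
    (h32 : ¬ (m = 3 ∧ q = 2)) (hmn : m < n) {x : PSU n F q} (hxp : orderOf x = p)
    (hx : ∀ g ∈ fixG q (hermPerp q (U : Set (Fin n → F))), pr n F q g * x = x * pr n F q g)
    (hx2 : ∀ g : SU n F q, pr n F q g * x = x * pr n F q g → ∀ u ∈ U, act g u ∈ U)
    (hr : PRankAtLeast p 4 ↥(centralizer ({x} : Set (PSU n F q))))
    (hB : ∃ B : Subgroup (SU n F q), B ≤ fixG q (hermPerp q (U : Set (Fin n → F))) ∧
      (∀ a ∈ B, ∀ b ∈ B, a * b = b * a) ∧ (∀ a ∈ B, a ^ p = 1) ∧ p ^ 2 ≤ Nat.card B)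
    {P : ∀ (K : Type u) [Group K], Prop}
    (hP : ∀ (A B : Type u) [Group A] [Group B], (A ≃* B) → P A → P B)
    (h : ∀ (X : Type u) [Group X] [Finite X], IsQuasisimple X → IsPGroup p ↥(center X) → ¬ PRankLE p 1 X →
      Nonempty (X ⧸ center X ≃* PSU m F q) → P X) :
    LpoExists p (PSU n F q) P := by
  have hp := (Fact.out : p.Prime)
  obtain ⟨B, hBle, hBc, hBp, hBk⟩ := hB
  have hK := comp hF hn hU hm hm3 h32 hmn hx hx2
  have hker : ∀ a ∈ B, pr n F q a = 1 → a = 1 := fun a ha h1 =>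
    ker_fixG hF hn (perp_ne_bot hF hU (hm ▸ hmn)) (hBle ha) h1
  have hrk : PRankAtLeast p 2 ↥(kgrp q U) :=
    pRank_of_map (pr n F q) B hBc hBp hBk hker fun a ha => ⟨a, hBle ha, rfl⟩
  have hdvd : p ∣ Nat.card ↥(kgrp q U) := by
    obtain ⟨A, -, hA, hAk⟩ := hrk
    have h1 : 1 < Nat.card A := lt_of_lt_of_le (Nat.one_lt_pow two_ne_zero hp.one_lt) hAk
    have : Nontrivial A := Finite.one_lt_card_iff_nontrivial.1 h1
    obtain ⟨a, ha⟩ := exists_ne (1 : A)
    have h2 : orderOf a = p := orderOf_eq_prime (Subtype.ext (hA a.1 a.2)) ha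
    rw [← h2]
    exact (orderOf_dvd_natCard a).trans (Subgroup.card_subgroup_dvd_card A)
  have hcop : ¬ (Nat.card ↥(kgrp q U)).Coprime p := fun h1 =>
    (Nat.Prime.coprime_iff_not_dvd hp).1 h1.symm hdvd
  refine OddTab.lpoExists_of_comp hxp (by rw [if_neg hp2]; exact hr) hK hcop hP ?_
  obtain ⟨e⟩ := kgrp_equiv hF hn hU hm hmn
  have hqs := OddTab.isQuasisimple_of_isComponentOf hK
  have hnt : pPrimeCore p ↥(kgrp q U) ≠ ⊤ := by
    intro h1
    have h2 := Lib.Cores.pPrimeCore_coprime (G := ↥(kgrp q U)) p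
    rw [h1, Nat.card_congr Subgroup.topEquiv.toEquiv] at h2
    exact hcop h2
  have hcen : pPrimeCore p ↥(kgrp q U) ≤ center ↥(kgrp q U) :=
    (SignalizersComponents.Components.quasisimple_normal hqs _ (Lib.Cores.pPrimeCore_normal p)).resolve_left hnt
  have hqq : IsQuasisimple (↥(kgrp q U) ⧸ pPrimeCore p ↥(kgrp q U)) := by
    obtain ⟨L, hL, ⟨e'⟩⟩ := OddTab.comp_image p hK hcop
    exact SignalizersComponents.Components.isQuasisimple_of_mulEquiv e'.symm hL.2
  refine h _ hqq isPGroup_center_mk (not_pRankLE_one hp (pRank_mk hrk)) ?_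
  obtain ⟨e1⟩ := LieClassical.Grun.quotient_center_equiv (perfect_SU hF hm3 h32)
    ((QuotientGroup.mk' (pPrimeCore p ↥(kgrp q U))).comp e.toMonoidHom)
    ((QuotientGroup.mk'_surjective _).comp e.surjective) (by
      intro g hg
      rw [MonoidHom.mem_ker, MonoidHom.comp_apply] at hg
      have h1 : e g ∈ pPrimeCore p ↥(kgrp q U) := (QuotientGroup.eq_one_iff _).1 hg
      have h2 := hcen h1
      rw [mem_center_iff] at h2 ⊢
      intro a
      apply e.injective
      rw [map_mul, map_mul, h2])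
  exact ⟨e1.symm⟩

end Cfsg.Agent.GpUn

end

-- merged: Cfsg.Agent.GpUn.Proj
section

/-!
# Elements of order prime to `q + 1`: the component of the centralizer of a good element (helper72, row GP-UN)
-/

set_option autoImplicit false

namespace Cfsg.Agent.GpUn

open Cfsg Module Matrix Subgroup
open Cfsg.Agent.LieClassical.HermBasic Cfsg.Agent.LieClassical.HermSiegel
open Cfsg.Agent.ClassicalGeometry.HermOrtho
open Cfsg.Agent.ClassicalGeometry.PSUAutBasic

universe u

variable {F : Type u} [Field F] [Fintype F] {q n : ℕ}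

/-- the element acting as `y` on `U` and trivially on `U^⊥` -/
theorem exists_glue (hF : Fintype.card F = q ^ 2) {p : ℕ} (hpq : p.Coprime (q + 1))
    {U : Submodule F (Fin n → F)} (hU : ND q U) {y : SU n F q} (hy : y ^ p = 1) (hyU : ∀ u ∈ U, act y u ∈ U) :
    ∃ g : SU n F q, (∀ u ∈ U, act g u = act y u) ∧ ∀ w ∈ hermPerp q (U : Set (Fin n → F)), act g w = w := by
  classical
  have hc := isCompl_hermPerp hF U hU
  set T : Matrix (Fin n) (Fin n) F := LinearMap.toMatrix' (U.projection _ hc) with hT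
  have hTv : ∀ v, T *ᵥ v = U.projection _ hc v := fun v => by
    rw [hT, ← Matrix.toLin'_apply, Matrix.toLin'_toMatrix']
  set M : Matrix (Fin n) (Fin n) F := mat y * T + (1 - T) with hM
  have hMv : ∀ a ∈ U, ∀ b ∈ hermPerp q (U : Set (Fin n → F)), M *ᵥ (a + b) = act y a + b := by
    intro a ha b hb
    have h1 : T *ᵥ (a + b) = a := by
      rw [hTv, map_add, Submodule.projection_apply_of_mem_left hc ha, Submodule.projection_apply_of_mem_right hc hb,
        add_zero]
    rw [hM, Matrix.add_mulVec, ← Matrix.mulVec_mulVec, h1, Matrix.sub_mulVec, h1, Matrix.one_mulVec, act_def]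
    congr 1
    abel
  have hiso : ∀ u v, hermForm n F q (M *ᵥ u) (M *ᵥ v) = hermForm n F q u v := by
    intro u v
    obtain ⟨a, ha, b, hb, rfl⟩ := exists_add_perp hF U hU u
    obtain ⟨c, hc', d, hd, rfl⟩ := exists_add_perp hF U hU v
    rw [hMv a ha b hb, hMv c hc' d hd]
    rw [herm_add_left, herm_add_right hF, herm_add_right hF, herm_add_left, herm_add_right hF, herm_add_right hF,
      herm_act, hb _ (hyU c hc'), hb _ hc', herm_eq_zero_swap hF (hd _ (hyU a ha)), herm_eq_zero_swap hF (hd _ ha)]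
  have hpow : ∀ k : ℕ, ∀ a ∈ U, ∀ b ∈ hermPerp q (U : Set (Fin n → F)), M ^ k *ᵥ (a + b) = act (y ^ k) a + b := by
    intro k
    induction k with
    | zero => intro a ha b hb; rw [pow_zero, pow_zero, Matrix.one_mulVec, act_one]
    | succ k ih =>
      intro a ha b hb
      rw [pow_succ, ← Matrix.mulVec_mulVec, hMv a ha b hb, ih _ (hyU a ha) b hb, pow_succ, act_mul]
  have hp1 : M ^ p = 1 := by
    rw [← Matrix.toLin'.injective.eq_iff]
    apply LinearMap.ext
    intro v
    obtain ⟨a, ha, b, hb, rfl⟩ := exists_add_perp hF U hU v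
    rw [Matrix.toLin'_apply, Matrix.toLin'_apply, hpow p a ha b hb, hy, act_one, Matrix.one_mulVec]
  have hdet : M.det = 1 := by
    have h1 := ClassicalGeometry.GUBasic.det_pow hF hiso
    have h2 : M.det ^ p = 1 := by rw [← Matrix.det_pow, hp1, Matrix.det_one]
    have h3 : orderOf M.det ∣ Nat.gcd p (q + 1) := Nat.dvd_gcd (orderOf_dvd_of_pow_eq_one h2)
      (orderOf_dvd_of_pow_eq_one h1)
    rw [hpq] at h3
    exact orderOf_eq_one_iff.1 (Nat.dvd_one.1 h3)
  refine ⟨mkSU M hdet hiso, fun u hu => ?_, fun w hw => ?_⟩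
  · have h1 := hMv u hu 0 (Submodule.zero_mem _)
    rw [add_zero, add_zero] at h1
    rw [act_def, mat_mkSU, h1]
  · have h1 := hMv 0 (Submodule.zero_mem _) w hw
    rw [zero_add, act_zero, zero_add] at h1
    rw [act_def, mat_mkSU, h1]

theorem ext_dec (hF : Fintype.card F = q ^ 2) {U : Submodule F (Fin n → F)} (hU : ND q U) {g h : SU n F q}
    (h1 : ∀ u ∈ U, act g u = act h u) (h2 : ∀ w ∈ hermPerp q (U : Set (Fin n → F)), act g w = act h w) : g = h := by
  apply ext_act
  intro v
  obtain ⟨a, ha, b, hb, rfl⟩ := exists_add_perp hF U hU v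
  rw [act_add, act_add, h1 a ha, h2 b hb]

/-- the subgroup induced on `U` -/
theorem exists_B (hF : Fintype.card F = q ^ 2) {p : ℕ} (_ : 0 < p) (hpq : p.Coprime (q + 1))
    {U : Submodule F (Fin n → F)} (hU : ND q U) {P : Subgroup (SU n F q)}
    (hPc : ∀ a ∈ P, ∀ b ∈ P, a * b = b * a) (hPp : ∀ a ∈ P, a ^ p = 1)
    (hPU : ∀ g ∈ P, ∀ u ∈ U, act g u ∈ U) {k : ℕ}
    (hk : p ^ k * Nat.card (P ⊓ fixG q U : Subgroup (SU n F q)) ≤ Nat.card P) :
    ∃ B : Subgroup (SU n F q), B ≤ fixG q (hermPerp q (U : Set (Fin n → F))) ∧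
      (∀ a ∈ B, ∀ b ∈ B, a * b = b * a) ∧ (∀ a ∈ B, a ^ p = 1) ∧ p ^ k ≤ Nat.card B := by
  choose f hf1 hf2 using fun y : P => exists_glue hF hpq hU (hPp y.1 y.2) (hPU y.1 y.2)
  let ρ : P →* SU n F q := MonoidHom.mk' f (by
    intro y z
    refine ext_dec hF hU (fun u hu => ?_) fun w hw => ?_
    · rw [hf1 _ u hu, act_mul, hf1 z u hu, hf1 y _ (hPU _ z.2 u hu)]
      exact act_mul _ _ _
    · rw [hf2 _ w hw, act_mul, hf2 z w hw, hf2 y w hw])
  have hker : Nat.card ρ.ker ≤ Nat.card (P ⊓ fixG q U : Subgroup (SU n F q)) := by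
    refine Nat.card_le_card_of_injective (fun y => ⟨y.1.1, y.1.2, fun u hu => ?_⟩) ?_
    · rw [← hf1 y.1 u hu]
      have h1 : f y.1 = 1 := y.2
      rw [h1, act_one]
    · intro y z h
      have h1 : (y.1.1 : SU n F q) = z.1.1 := congrArg (fun t : (P ⊓ fixG q U : Subgroup (SU n F q)) => t.1) h
      exact Subtype.ext (Subtype.ext h1)
  refine ⟨ρ.range, ?_, ?_, ?_, ?_⟩
  · rintro _ ⟨y, rfl⟩ w hw
    exact hf2 y w hw
  · rintro _ ⟨y, rfl⟩ _ ⟨z, rfl⟩
    rw [← map_mul, ← map_mul]
    congr 1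
    exact Subtype.ext (hPc _ y.2 _ z.2)
  · rintro _ ⟨y, rfl⟩
    rw [← map_pow, show y ^ p = 1 from Subtype.ext (hPp y.1 y.2), map_one]
  · have h1 : Nat.card P = Nat.card ρ.range * Nat.card ρ.ker := by
      rw [Subgroup.card_eq_card_quotient_mul_card_subgroup ρ.ker,
        Nat.card_congr (QuotientGroup.quotientKerEquivRange ρ).toEquiv]
    have hpos : 0 < Nat.card (P ⊓ fixG q U : Subgroup (SU n F q)) := Nat.card_pos
    rw [h1] at hk
    by_contra hlt
    push Not at hlt
    have h2 : Nat.card ρ.range * Nat.card ρ.ker ≤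
        Nat.card ρ.range * Nat.card (P ⊓ fixG q U : Subgroup (SU n F q)) := Nat.mul_le_mul_left _ hker
    have h3 : Nat.card ρ.range * Nat.card (P ⊓ fixG q U : Subgroup (SU n F q)) <
        p ^ k * Nat.card (P ⊓ fixG q U : Subgroup (SU n F q)) := Nat.mul_lt_mul_of_pos_right hlt hpos
    omega

theorem center_pow (hF : Fintype.card F = q ^ 2) (hn : 3 ≤ n) {z : SU n F q} (hz : z ∈ center (SU n F q)) :
    z ^ (q + 1) = 1 := by
  obtain ⟨c, -, hcq, hc⟩ := exists_scalar_of_mem_center hF hn hz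
  have h1 : ∀ k : ℕ, ∀ v, act (z ^ k) v = c ^ k • v := by
    intro k
    induction k with
    | zero => intro v; rw [pow_zero, act_one, pow_zero, one_smul]
    | succ k ih => intro v; rw [pow_succ, act_mul, hc, act_smul, ih, smul_smul, pow_succ, mul_comm]
  apply ext_act
  intro v
  rw [h1, act_one, pow_succ', hcq, one_smul]

theorem eq_one_of_center (hF : Fintype.card F = q ^ 2) (hn : 3 ≤ n) {p : ℕ} (hpq : p.Coprime (q + 1))
    {z : SU n F q} (hz : z ∈ center (SU n F q)) (hzp : z ^ p = 1) : z = 1 := by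
  have h3 : orderOf z ∣ Nat.gcd p (q + 1) := Nat.dvd_gcd (orderOf_dvd_of_pow_eq_one hzp)
    (orderOf_dvd_of_pow_eq_one (center_pow hF hn hz))
  rw [hpq] at h3
  exact orderOf_eq_one_iff.1 (Nat.dvd_one.1 h3)

/-- elements of order prime to `q + 1` commuting modulo the centre commute -/
theorem comm_of_pr (hF : Fintype.card F = q ^ 2) (hn : 3 ≤ n) {p : ℕ} (hpq : p.Coprime (q + 1))
    {g x : SU n F q} (hx : x ^ p = 1) (h : pr n F q g * pr n F q x = pr n F q x * pr n F q g) : g * x = x * g := by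
  rw [← map_mul, ← map_mul] at h
  obtain ⟨z, hz, hz1⟩ := exists_center_mul h
  have hzc := mem_center_iff.1 hz
  have h1 : x * g = z * (g * x) := by rw [hz1, hzc]
  have h2 : g⁻¹ * (x * g) = z * x := by
    rw [hz1, mul_assoc g, inv_mul_cancel_left, hzc]
  have h3 : (z * x) ^ p = 1 := by
    rw [← h2]
    have h4 := conj_pow (i := p) (a := g⁻¹) (b := x)
    rw [inv_inv] at h4
    rw [← mul_assoc, h4, hx, mul_one, inv_mul_cancel]
  have h5 : Commute z x := (hzc x).symm
  rw [h5.mul_pow, hx, mul_one] at h3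
  rw [eq_one_of_center hF hn hpq hz h3, one_mul] at h1
  exact h1.symm

/-- Lifting. -/
theorem exists_lift (hF : Fintype.card F = q ^ 2) (hn : 3 ≤ n) {p : ℕ} [Fact p.Prime] (hpq : p.Coprime (q + 1))
    (h : PRankAtLeast p 4 (PSU n F q)) :
    ∃ P : Subgroup (SU n F q), (∀ a ∈ P, ∀ b ∈ P, a * b = b * a) ∧ (∀ a ∈ P, a ^ p = 1) ∧ p ^ 4 ≤ Nat.card P := by
  obtain ⟨A, hA, hAp, hA4⟩ := h
  have hcomm : ∀ g h : SU n F q, g ^ p = 1 → h ^ p = 1 → pr n F q g ∈ A → pr n F q h ∈ A → g * h = h * g := by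
    intro g h hg hh hgA hhA
    refine comm_of_pr hF hn hpq hh ?_
    exact congrArg Subtype.val (hA.is_comm.comm ⟨_, hgA⟩ ⟨_, hhA⟩)
  let P : Subgroup (SU n F q) :=
    { carrier := {g | g ^ p = 1 ∧ pr n F q g ∈ A}
      one_mem' := ⟨one_pow _, by rw [map_one]; exact A.one_mem⟩
      mul_mem' := by
        rintro g h ⟨hg, hgA⟩ ⟨hh, hhA⟩
        have hc : Commute g h := hcomm g h hg hh hgA hhA
        exact ⟨by rw [hc.mul_pow, hg, hh, one_mul], by rw [map_mul]; exact A.mul_mem hgA hhA⟩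
      inv_mem' := by
        rintro g ⟨hg, hgA⟩
        exact ⟨by rw [inv_pow, hg, inv_one], by rw [map_inv]; exact A.inv_mem hgA⟩ }
  refine ⟨P, fun a ha b hb => hcomm a b ha.1 hb.1 ha.2 hb.2, fun a ha => ha.1, hA4.trans ?_⟩
  have hsurj : ∀ a : A, ∃ g : P, pr n F q g.1 = a.1 := by
    rintro ⟨a, ha⟩
    obtain ⟨g, rfl⟩ := pr_surjective (n := n) (F := F) (q := q) a
    have h1 : g ^ p ∈ center (SU n F q) := by
      rw [← pr_eq_one_iff, map_pow]
      exact hAp _ ha
    obtain ⟨j, hj1, hj2⟩ := Nat.chineseRemainder hpq 1 0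
    have h2 : g ^ j ∈ P := by
      refine ⟨?_, ?_⟩
      · rw [← pow_mul, mul_comm, pow_mul]
        obtain ⟨k, hk⟩ := (Nat.modEq_zero_iff_dvd.1 hj2)
        rw [hk, pow_mul, center_pow hF hn h1, one_pow]
      · rw [map_pow]
        exact A.pow_mem ha _
    refine ⟨⟨g ^ j, h2⟩, ?_⟩
    show pr n F q (g ^ j) = _
    rw [map_pow]
    have h3 : pr n F q g ^ j = pr n F q g ^ 1 := by
      rw [pow_eq_pow_iff_modEq]
      exact hj1.of_dvd (orderOf_dvd_of_pow_eq_one (hAp _ ha))
    rw [h3, pow_one]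
  choose f hf using hsurj
  exact Nat.card_le_card_of_injective f fun a b hab => Subtype.ext (by rw [← hf a, ← hf b, hab])

theorem mem_perp_perp (hF : Fintype.card F = q ^ 2) {U : Submodule F (Fin n → F)} (hU : ND q U) {v : Fin n → F}
    (hv : ∀ w ∈ hermPerp q (U : Set (Fin n → F)), hermForm n F q v w = 0) : v ∈ U := by
  obtain ⟨a, ha, b, hb, rfl⟩ := exists_add_perp hF U hU v
  have h1 : b = 0 := by
    refine hermPerp_nondeg hF U hU b hb fun w hw => ?_
    have h2 := hv w hw
    rwa [herm_add_left, herm_eq_zero_swap hF (hw a ha), zero_add] at h2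
  rw [h1, add_zero]
  exact ha

/-- the pointwise stabiliser of `U^⊥` preserves `U` -/
theorem act_mem_of_fixG (hF : Fintype.card F = q ^ 2) {U : Submodule F (Fin n → F)} (hU : ND q U) {g : SU n F q}
    (hg : g ∈ fixG q (hermPerp q (U : Set (Fin n → F)))) {u : Fin n → F} (hu : u ∈ U) : act g u ∈ U := by
  refine mem_perp_perp hF hU fun w hw => ?_
  rw [herm_act_left, (fixG q _).inv_mem hg w hw]
  exact herm_eq_zero_swap hF (hw u hu)

/-- **The coprime case.** -/
theorem lpo_coprime (hF : Fintype.card F = q ^ 2) (hn : 3 ≤ n) {p : ℕ} [Fact p.Prime] (hp2 : p ≠ 2)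
    (hpF : (p : F) ≠ 0) (hpq : p.Coprime (q + 1)) (hr : PRankAtLeast p 4 (PSU n F q))
    {P : ∀ (K : Type u) [Group K], Prop}
    (hP : ∀ (A B : Type u) [Group A] [Group B], (A ≃* B) → P A → P B)
    (h : ∀ m : ℕ, 6 ≤ m → m < n → ∀ (X : Type u) [Group X] [Finite X], IsQuasisimple X → IsPGroup p ↥(center X) →
      ¬ PRankLE p 1 X → Nonempty (X ⧸ center X ≃* PSU m F q) → P X) :
    LpoExists p (PSU n F q) P := by
  have hp := (Fact.out : p.Prime)
  obtain ⟨A, hAc, hAp, hA4⟩ := exists_lift hF hn hpq hr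
  obtain ⟨x, hxA, hx1, hU, hm6, hk⟩ := exists_good hF hpF hpq hAc hAp hA4
  have hxp := hAp x hxA
  have hAU : ∀ g ∈ A, ∀ u ∈ fx x, act g u ∈ fx x := by
    intro g hg u hu
    rw [mem_fx, ← act_mul, hAc x hxA g hg, act_mul, mem_fx.1 hu]
  have hmn : finrank F (fx x) < n := by
    have h1 := Submodule.finrank_le (fx x)
    rw [finrank_fin_fun] at h1
    refine lt_of_le_of_ne h1 fun h2 => hx1 ?_
    have h3 : fx x = ⊤ := Submodule.eq_top_of_finrank_eq (by rw [h2, finrank_fin_fun])
    exact eq_one_of_top fun w => by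
      have : w ∈ fx x := by rw [h3]; trivial
      exact this
  have hinj : ∀ a ∈ A, pr n F q a = 1 → a = 1 := fun a ha h1 =>
    eq_one_of_center hF hn hpq (pr_eq_one_iff.1 h1) (hAp a ha)
  refine lpo_of_comp hF hn hp2 hU rfl (by omega) (by omega) hmn (x := pr n F q x) ?_ ?_ ?_ ?_
    (exists_B hF hp.pos hpq hU hAc hAp hAU (k := 2) ?_) hP (h _ hm6 hmn)
  · exact orderOf_eq_prime (by rw [← map_pow, hxp, map_one]) fun h1 => hx1 (hinj x hxA h1)
  · intro g hg
    rw [← map_mul, ← map_mul]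
    congr 1
    refine ext_dec hF hU (fun u hu => ?_) fun w hw => ?_
    · rw [act_mul, act_mul, mem_fx.1 hu]
      exact (mem_fx.1 (act_mem_of_fixG hF hU hg hu)).symm
    · rw [act_mul, act_mul, hg w hw]
      exact hg _ (act_perp (fun u hu => hAU _ (A.inv_mem hxA) u hu) hw)
  · intro g hg u hu
    have h1 := comm_of_pr hF hn hpq hxp hg
    rw [mem_fx, ← act_mul, ← h1, act_mul, mem_fx.1 hu]
  · refine pRank_of_map (pr n F q) A hAc hAp hA4 hinj fun a ha => ?_
    rw [mem_centralizer_singleton_iff, ← map_mul, ← map_mul, hAc a ha x hxA]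
  · calc p ^ 2 * Nat.card (A ⊓ fixG q (fx x) : Subgroup (SU n F q))
        ≤ p ^ 3 * Nat.card (A ⊓ fixG q (fx x) : Subgroup (SU n F q)) :=
          Nat.mul_le_mul_right _ (Nat.pow_le_pow_right hp.pos (by omega))
      _ ≤ Nat.card A := hk

end Cfsg.Agent.GpUn

end

-- merged: Cfsg.Agent.GpUn.Diag
section

/-!
# Elements of order dividing `q + 1` (helper72, row GP-UN)
-/

set_option autoImplicit false

namespace Cfsg.Agent.GpUn

open Cfsg Module Matrix Subgroup
open Cfsg.Agent.LieClassical.HermBasic Cfsg.Agent.LieClassical.HermSiegel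
open Cfsg.Agent.LieClassical.SUBasic (suDiag mem_center_SU_iff suScalar coe_suScalar)
open Cfsg.Agent.ClassicalGeometry.HermOrtho
open Cfsg.Agent.ClassicalGeometry.PSUAutBasic

universe u

section basic

variable {F : Type u} [Field F] {q n : ℕ}

/-- vectors supported on `S` -/
def cU (F : Type u) [Field F] {n : ℕ} (S : Finset (Fin n)) : Submodule F (Fin n → F) where
  carrier := {v | ∀ i ∉ S, v i = 0}
  add_mem' := fun {u v} hu hv i hi => by rw [Pi.add_apply, hu i hi, hv i hi, add_zero]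
  zero_mem' := fun _ _ => rfl
  smul_mem' := fun c v hv i hi => by rw [Pi.smul_apply, hv i hi, smul_zero]

theorem single_mem_cU {S : Finset (Fin n)} {i : Fin n} (hi : i ∈ S) (a : F) :
    (Pi.single i a : Fin n → F) ∈ cU F S := by
  intro j hj
  have hji : j ≠ i := by
    rintro rfl
    exact hj hi
  exact Pi.single_eq_of_ne (M := fun _ => F) hji a

theorem finrank_cU (S : Finset (Fin n)) : finrank F (cU F S) = S.card := by
  classical
  let L : cU F S →ₗ[F] (S → F) :=
    { toFun := fun v i => v.1 i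
      map_add' := fun _ _ => rfl
      map_smul' := fun _ _ => rfl }
  have hL : Function.Bijective L := by
    constructor
    · intro u v h
      apply Subtype.ext
      funext i
      by_cases hi : i ∈ S
      · exact congrFun h ⟨i, hi⟩
      · rw [u.2 i hi, v.2 i hi]
    · intro f
      refine ⟨⟨fun i => if h : i ∈ S then f ⟨i, h⟩ else 0, fun i hi => dif_neg hi⟩, ?_⟩
      funext i
      exact dif_pos i.2
  rw [(LinearEquiv.ofBijective L hL).finrank_eq, finrank_fintype_fun_eq_card, Fintype.card_coe]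

theorem act_suDiag (a : Fin n → F) (hd : ∏ i, a i = 1) (ha : ∀ i, a i ^ (q + 1) = 1) (v : Fin n → F) (i : Fin n) :
    act (suDiag q a hd ha) v i = a i * v i := by
  rw [act, show mat (suDiag q a hd ha) = Matrix.diagonal a from rfl, Matrix.mulVec_diagonal]

/-- diagonal elements of exponent `p` supported on `S` -/
def diagT (F : Type u) [Field F] (q : ℕ) {n : ℕ} (p : ℕ) (S : Finset (Fin n)) : Subgroup (SU n F q) where
  carrier := {g | ∃ a : Fin n → F, (∀ i, a i ^ p = 1) ∧ (∀ i ∉ S, a i = 1) ∧ ∀ v i, act g v i = a i * v i}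
  one_mem' := ⟨fun _ => 1, fun _ => one_pow _, fun _ _ => rfl, fun v i => by rw [act_one, one_mul]⟩
  mul_mem' := by
    rintro g h ⟨a, ha1, ha2, ha3⟩ ⟨b, hb1, hb2, hb3⟩
    refine ⟨fun i => a i * b i, fun i => by rw [mul_pow, ha1, hb1, one_mul],
      fun i hi => by show a i * b i = 1; rw [ha2 i hi, hb2 i hi, one_mul], fun v i => by rw [act_mul, ha3, hb3, mul_assoc]⟩
  inv_mem' := by
    rintro g ⟨a, ha1, ha2, ha3⟩
    refine ⟨fun i => (a i)⁻¹, fun i => by rw [inv_pow, ha1, inv_one],
      fun i hi => by show (a i)⁻¹ = 1; rw [ha2 i hi, inv_one], fun v i => ?_⟩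
    show act g⁻¹ v i = (a i)⁻¹ * v i
    rcases eq_or_ne (a i) 0 with h | h
    · have h2 : act g (act g⁻¹ (Pi.single i 1)) i = 0 := by rw [ha3, h, zero_mul]
      rw [act_act_inv, Pi.single_eq_same] at h2
      exact absurd h2 one_ne_zero
    · have h1 := ha3 (act g⁻¹ v) i
      rw [act_act_inv] at h1
      rw [h1, inv_mul_cancel_left₀ h]

theorem diagT_comm {p : ℕ} {S T : Finset (Fin n)} {g h : SU n F q} (hg : g ∈ diagT F q p S)
    (hh : h ∈ diagT F q p T) : g * h = h * g := by
  obtain ⟨a, -, -, ha⟩ := hg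
  obtain ⟨b, -, -, hb⟩ := hh
  apply ext_act
  intro v
  funext i
  rw [act_mul, act_mul, ha, hb, hb, ha, mul_left_comm]

theorem act_pow_of {a : Fin n → F} {g : SU n F q} (hg : ∀ v i, act g v i = a i * v i) (k : ℕ) (v : Fin n → F)
    (i : Fin n) : act (g ^ k) v i = a i ^ k * v i := by
  induction k generalizing v with
  | zero => rw [pow_zero, act_one, pow_zero, one_mul]
  | succ k ih => rw [pow_succ, act_mul, ih, hg, pow_succ, mul_assoc]

theorem diagT_pow {p : ℕ} {S : Finset (Fin n)} {g : SU n F q} (hg : g ∈ diagT F q p S) : g ^ p = 1 := by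
  obtain ⟨a, ha, -, hg⟩ := hg
  apply ext_act
  intro v
  funext i
  rw [act_pow_of hg, ha, one_mul, act_one]

end basic

section fin

variable {F : Type u} [Field F] [Fintype F] {q n : ℕ}

theorem perp_cU (hF : Fintype.card F = q ^ 2) (S : Finset (Fin n)) {v : Fin n → F} :
    v ∈ hermPerp q (cU F S : Set (Fin n → F)) ↔ ∀ i ∈ S, v i = 0 := by
  constructor
  · intro h i hi
    have h1 := h _ (single_mem_cU hi 1)
    rwa [herm_single_right hF, one_pow, mul_one] at h1
  · intro h u hu
    rw [herm_def]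
    refine Finset.sum_eq_zero fun i _ => ?_
    by_cases hi : i ∈ S
    · rw [h i hi, zero_mul]
    · rw [hu i hi, zero_pow_q hF, mul_zero]

theorem nd_cU (hF : Fintype.card F = q ^ 2) (S : Finset (Fin n)) : ND q (cU F S) := by
  intro u hu h
  funext i
  by_cases hi : i ∈ S
  · have h1 := h _ (single_mem_cU hi 1)
    rwa [herm_single_right hF, one_pow, mul_one] at h1
  · exact hu i hi

theorem exists_root (hF : Fintype.card F = q ^ 2) {p : ℕ} [Fact p.Prime] (hpq : p ∣ q + 1) :
    ∃ u : Fˣ, orderOf u = p := by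
  apply exists_prime_orderOf_dvd_card'
  rw [card_units_eq hF]
  exact hpq.trans (Dvd.intro _ rfl)

theorem card_diagT (hF : Fintype.card F = q ^ 2) {p : ℕ} [Fact p.Prime] (hpq : p ∣ q + 1) (S : Finset (Fin n)) :
    p ^ S.card ≤ p * Nat.card (diagT F q p S) := by
  classical
  have hp := (Fact.out : p.Prime)
  obtain ⟨u, hu⟩ := exists_root hF hpq
  set μ : Subgroup Fˣ := Subgroup.zpowers u with hμ
  have hcard : Nat.card μ = p := by rw [hμ, Nat.card_zpowers, hu]
  have hμp : ∀ t : μ, (((t : Fˣ) : F)) ^ p = 1 := by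
    intro t
    have h1 : t ^ p = 1 := by
      rw [← hcard]
      exact pow_card_eq_one'
    rw [← Units.val_pow_eq_pow_val]
    have h2 : ((t : Fˣ)) ^ p = 1 := by
      have := congrArg Subtype.val h1
      simpa only [_root_.SubmonoidClass.coe_pow, _root_.OneMemClass.coe_one] using this
    rw [h2, Units.val_one]
  let f : (S → μ) →* μ := MonoidHom.mk' (fun a => ∏ i, a i) (fun a b => Finset.prod_mul_distrib)
  have h1 : Nat.card (S → μ) = p ^ S.card := by
    rw [Nat.card_fun, hcard, Nat.card_eq_fintype_card, Fintype.card_coe]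
  have h2 : Nat.card (S → μ) ≤ p * Nat.card f.ker := by
    rw [Subgroup.card_eq_card_quotient_mul_card_subgroup f.ker,
      Nat.card_congr (QuotientGroup.quotientKerEquivRange f).toEquiv]
    refine Nat.mul_le_mul_right _ ?_
    have h3 := Nat.card_le_card_of_injective (Subtype.val : f.range → μ) Subtype.val_injective
    rwa [hcard] at h3
  have h3 : Nat.card f.ker ≤ Nat.card (diagT F q p S) := by
    set ext : (S → μ) → Fin n → F := fun a i => if h : i ∈ S then (((a ⟨i, h⟩ : μ) : Fˣ) : F) else 1 with hext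
    have hextp : ∀ a i, ext a i ^ p = 1 := by
      intro a i
      by_cases h : i ∈ S
      · rw [hext]
        simp only [dif_pos h]
        exact hμp _
      · rw [hext]
        simp only [dif_neg h, one_pow]
    have hextq : ∀ a i, ext a i ^ (q + 1) = 1 := by
      intro a i
      obtain ⟨k, hk⟩ := hpq
      rw [hk, pow_mul, hextp, one_pow]
    have hprod : ∀ a : f.ker, ∏ i, ext a.1 i = 1 := by
      intro a
      have h4 : ∏ i, (a.1 i : μ) = 1 := a.2
      have h5 : ∏ i : S, ext a.1 i = 1 := by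
        have h6 : ∀ i : S, ext a.1 i = (((a.1 i : μ) : Fˣ) : F) := fun i => by
          rw [hext]
          simp only [dif_pos i.2]
        rw [Finset.prod_congr rfl fun i _ => h6 i]
        have h7 := congrArg (fun t : μ => ((t : Fˣ) : F)) h4
        simpa only [_root_.Finset.univ_eq_attach, _root_.Subgroup.val_finsetProd, _root_.Units.coe_prod, _root_.OneMemClass.coe_one, _root_.Units.val_one] using h7
      rw [Finset.prod_coe_sort S (fun i => ext a.1 i)] at h5
      rw [← h5]
      symm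
      apply Finset.prod_subset (Finset.subset_univ _)
      intro i _ hi
      rw [hext]
      simp only [dif_neg hi]
    refine Nat.card_le_card_of_injective (fun a : f.ker => (⟨suDiag q (ext a.1) (hprod a) (hextq a.1),
      ext a.1, hextp a.1, fun i hi => dif_neg hi, fun v i => act_suDiag _ _ _ v i⟩ : diagT F q p S)) ?_
    intro a b hab
    have h4 : suDiag q (ext a.1) (hprod a) (hextq a.1) = suDiag q (ext b.1) (hprod b) (hextq b.1) :=
      congrArg (fun t : diagT F q p S => t.1) hab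
    apply Subtype.ext
    funext i
    have h5 := congrArg (fun g : SU n F q => act g (Pi.single i.1 1) i.1) h4
    simp only [act_suDiag, Pi.single_eq_same, mul_one] at h5
    rw [hext] at h5
    simp only [dif_pos i.2] at h5
    exact Subtype.ext (Units.ext h5)
  calc p ^ S.card = Nat.card (S → μ) := h1.symm
    _ ≤ p * Nat.card f.ker := h2
    _ ≤ p * Nat.card (diagT F q p S) := Nat.mul_le_mul_left _ h3

theorem card_diagT' (hF : Fintype.card F = q ^ 2) {p : ℕ} [Fact p.Prime] (hpq : p ∣ q + 1) (S : Finset (Fin n))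
    {k : ℕ} (hk : k + 1 ≤ S.card) : p ^ k ≤ Nat.card (diagT F q p S) := by
  have hp := (Fact.out : p.Prime)
  have h1 := card_diagT hF hpq S
  have h2 : p ^ (k + 1) ≤ p ^ S.card := Nat.pow_le_pow_right hp.pos hk
  rw [pow_succ'] at h2
  exact Nat.le_of_mul_le_mul_left (h2.trans h1) hp.pos

/-- **The diagonal case.** -/
theorem lpo_diag (hF : Fintype.card F = q ^ 2) (hn : 6 ≤ n) {p : ℕ} [Fact p.Prime] (hp2 : p ≠ 2)
    (hpq : p ∣ q + 1) (a : Fin n → F) (hd : ∏ i, a i = 1) (hap : ∀ i, a i ^ p = 1) (ha : ∀ i, a i ^ (q + 1) = 1)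
    {c : F} (S : Finset (Fin n)) (haS : ∀ i ∈ S, a i = c) (haS' : ∀ i ∉ S, a i ≠ c) {m : ℕ} (hm : S.card = m)
    (hm3 : 3 ≤ m) (h32 : ¬ (m = 3 ∧ q = 2)) (hmn : m < n)
    (hsep : ∀ g : SU n F q, pr n F q g * pr n F q (suDiag q a hd ha) = pr n F q (suDiag q a hd ha) * pr n F q g →
      g * suDiag q a hd ha = suDiag q a hd ha * g)
    {P : ∀ (K : Type u) [Group K], Prop}
    (hP : ∀ (A B : Type u) [Group A] [Group B], (A ≃* B) → P A → P B)
    (h : ∀ (X : Type u) [Group X] [Finite X], IsQuasisimple X → IsPGroup p ↥(center X) →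
      ¬ PRankLE p 1 X → Nonempty (X ⧸ center X ≃* PSU m F q) → P X) :
    LpoExists p (PSU n F q) P := by
  classical
  have hp := (Fact.out : p.Prime)
  set x : SU n F q := suDiag q a hd ha with hxdef
  have hx : ∀ v i, act x v i = a i * v i := act_suDiag a hd ha
  have hU := nd_cU hF S
  have hxU : ∀ u, u ∈ cU F S ↔ act x u = c • u := by
    intro u
    constructor
    · intro hu
      funext i
      rw [hx, Pi.smul_apply, smul_eq_mul]
      by_cases hi : i ∈ S
      · rw [haS i hi]
      · rw [hu i hi, mul_zero, mul_zero]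
    · intro h1 i hi
      have h2 := congrFun h1 i
      rw [hx, Pi.smul_apply, smul_eq_mul] at h2
      have h3 : (a i - c) * u i = 0 := by rw [sub_mul, h2, sub_self]
      exact (mul_eq_zero.1 h3).resolve_left (sub_ne_zero.2 (haS' i hi))
  have hxp : x ^ p = 1 := by
    apply ext_act
    intro v
    funext i
    rw [act_pow_of hx, hap, one_mul, act_one]
  obtain ⟨i0, hi0⟩ : ∃ i, i ∈ S := Finset.card_pos.1 (by omega)
  obtain ⟨i1, hi1⟩ : ∃ i, i ∉ S := by
    by_contra hcon
    push Not at hcon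
    have h1 : S = Finset.univ := Finset.eq_univ_iff_forall.2 hcon
    rw [h1, Finset.card_univ, Fintype.card_fin] at hm
    omega
  have hpx : pr n F q x ≠ 1 := by
    intro h1
    obtain ⟨d, -, -, hd⟩ := exists_scalar_of_mem_center hF (by omega) (pr_eq_one_iff.1 h1)
    have h2 : ∀ i, a i = d := by
      intro i
      have h3 := congrFun (hd (Pi.single i 1)) i
      rwa [hx, Pi.smul_apply, Pi.single_eq_same, smul_eq_mul, mul_one, mul_one] at h3
    exact haS' i1 hi1 (by rw [h2 i1, ← h2 i0, haS i0 hi0])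
  refine lpo_of_comp hF (by omega) hp2 hU ((finrank_cU S).trans hm) hm3 h32 hmn (x := pr n F q x) ?_ ?_ ?_ ?_ ?_ hP h
  · exact orderOf_eq_prime (by rw [← map_pow, hxp, map_one]) hpx
  · intro g hg
    rw [← map_mul, ← map_mul]
    congr 1
    refine ext_dec hF hU (fun u hu => ?_) fun w hw => ?_
    · have h1 := act_mem_of_fixG hF hU hg hu
      rw [act_mul, act_mul, (hxU u).1 hu, (hxU _).1 h1, act_smul]
    · have h1 : act x w ∈ hermPerp q (cU F S : Set (Fin n → F)) := by
        rw [perp_cU hF] at hw ⊢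
        intro i hi
        rw [hx, hw i hi, mul_zero]
      rw [act_mul, act_mul, hg w hw, hg _ h1]
  · intro g hg u hu
    have h1 := hsep g hg
    rw [hxU, ← act_mul, ← h1, act_mul, (hxU u).1 hu, act_smul]
  · -- rank at least `4`
    set T : Finset (Fin n) := Finset.univ.filter fun i => i.val < 5 with hT
    have hTc : T.card = 5 := by
      rw [hT]
      have h1 : (Finset.univ.filter fun i : Fin n => i.val < 5) = Finset.univ.map (Fin.castLEEmb (by omega : 5 ≤ n)) := by
        ext i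
        simp only [Finset.mem_filter, Finset.mem_univ, true_and, Finset.mem_map]
        constructor
        · intro hi
          exact ⟨⟨i.val, hi⟩, Fin.ext rfl⟩
        · rintro ⟨j, rfl⟩
          exact j.2
      rw [h1, Finset.card_map, Finset.card_univ, Fintype.card_fin]
    refine pRank_of_map (pr n F q) (diagT F q p T) (fun _ hg _ hh => diagT_comm hg hh) (fun _ hg => diagT_pow hg)
      (card_diagT' hF hpq T (by rw [hTc])) ?_ ?_
    · rintro g ⟨b, -, hb, hg⟩ h1
      obtain ⟨d, -, -, hd⟩ := exists_scalar_of_mem_center hF (by omega) (pr_eq_one_iff.1 h1)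
      have h5 : (⟨5, by omega⟩ : Fin n) ∉ T := by
        rw [hT]
        simp only [_root_.Finset.mem_filter, _root_.Finset.mem_univ, _root_.lt_self_iff_false, _root_.and_false, _root_.not_false_eq_true]
      have h2 := congrFun (hd (Pi.single ⟨5, by omega⟩ 1)) ⟨5, by omega⟩
      rw [hg, Pi.smul_apply, Pi.single_eq_same, smul_eq_mul, mul_one, mul_one, hb _ h5] at h2
      apply ext_act
      intro v
      rw [hd, ← h2, one_smul, act_one]
    · intro g hg
      rw [mem_centralizer_singleton_iff, ← map_mul, ← map_mul]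
      congr 1
      have hxT : x ∈ diagT F q p Finset.univ :=
        ⟨a, hap, fun i hi => absurd (Finset.mem_univ i) hi, hx⟩
      exact diagT_comm hg hxT
  · refine ⟨diagT F q p S, ?_, fun _ hg _ hh => diagT_comm hg hh, fun _ hg => diagT_pow hg,
      card_diagT' hF hpq S (by omega)⟩
    rintro g ⟨b, -, hb, hg⟩ w hw
    rw [perp_cU hF] at hw
    funext i
    rw [hg]
    by_cases hi : i ∈ S
    · rw [hw i hi, mul_zero]
    · rw [hb i hi, one_mul]

/-- commuting modulo the centre with an element with a large fixed space -/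
theorem comm_of_dim (hF : Fintype.card F = q ^ 2) (hn : 3 ≤ n) {g x : SU n F q} (hx : n < 2 * finrank F (fx x))
    (h : pr n F q g * pr n F q x = pr n F q x * pr n F q g) : g * x = x * g := by
  rw [← map_mul, ← map_mul] at h
  obtain ⟨z, hz, hz1⟩ := exists_center_mul h
  obtain ⟨d, hd0, -, hd⟩ := exists_scalar_of_mem_center hF hn hz
  -- `x g = d g x`
  have h1 : ∀ v, act x (act g v) = d • act g (act x v) := by
    intro v
    rw [← act_mul, hz1, act_mul, hd, act_mul, act_smul, act_smul]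
  suffices hd1 : d = 1 by
    apply ext_act
    intro v
    rw [act_mul, act_mul, h1, hd1, one_smul]
  by_contra hd1
  -- the image of the fixed space meets it trivially
  let L : (Fin n → F) →ₗ[F] (Fin n → F) :=
    { toFun := act g, map_add' := act_add g, map_smul' := act_smul g }
  have hL : Function.Injective L := act_injective g
  have h2 : finrank F ((fx x).map L) = finrank F (fx x) := (Submodule.equivMapOfInjective L hL (fx x)).finrank_eq.symm
  have h3 : (fx x).map L ⊓ fx x = ⊥ := by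
    rw [Submodule.eq_bot_iff]
    rintro _ ⟨⟨u, hu, rfl⟩, h4⟩
    have h5 : act x (act g u) = act g u := h4
    rw [h1, show act x u = u from hu] at h5
    have h6 : (d - 1) • act g u = 0 := by rw [sub_smul, h5, one_smul, sub_self]
    exact (smul_eq_zero.1 h6).resolve_left (sub_ne_zero.2 hd1)
  have h4 := Submodule.finrank_sup_add_finrank_inf_eq ((fx x).map L) (fx x)
  rw [h3, finrank_bot, add_zero, h2] at h4
  have h5 := Submodule.finrank_le ((fx x).map L ⊔ fx x)
  rw [finrank_fin_fun] at h5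
  omega

end fin

end Cfsg.Agent.GpUn

end

-- merged: Cfsg.Agent.GpUn.Lpo
section

/-!
# Elements of `L_p°(PSU n F q)`, `q = 2^k` (helper72, row GP-UN)

`lpo` : if `n ≥ 6`, `q = 2^k`, `(n, q) ≠ (6, 2), (7, 2)` and `m_p(PSU n F q) ≥ 4` (`p` odd), then some element `K` of
`L_p°(PSU n F q)` is quasisimple with `O_{p'}(K) = 1`, `K / Z(K) ≅ PSU m F q`, `m ≥ 4` (`m ≥ 7` if `q = 2`, `p = 3`) and
`m_p(K) ≥ 2`.
-/

set_option autoImplicit false

namespace Cfsg.Agent.GpUn

open Cfsg Module Matrix Subgroup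
open Cfsg.Agent.LieClassical.HermBasic Cfsg.Agent.LieClassical.HermSiegel
open Cfsg.Agent.LieClassical.SUBasic (suDiag mem_center_SU_iff suScalar coe_suScalar)
open Cfsg.Agent.ClassicalGeometry.HermOrtho
open Cfsg.Agent.ClassicalGeometry.PSUAutBasic

universe u

variable {F : Type u} [Field F] [Fintype F] {q n : ℕ}

theorem card_filter_ge (n l : ℕ) : (Finset.univ.filter fun i : Fin n => l ≤ i.val).card = n - l := by
  rcases le_total l n with h | h
  · have h1 : (Finset.univ.filter fun i : Fin n => l ≤ i.val) =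
        Finset.univ.map ⟨fun j : Fin (n - l) => (⟨j.val + l, by omega⟩ : Fin n), fun i j hij => by
          apply Fin.ext
          have := congrArg Fin.val hij
          simpa using this⟩ := by
      ext i
      simp only [Finset.mem_filter, Finset.mem_univ, true_and, Finset.mem_map]
      constructor
      · intro hi
        exact ⟨⟨i.val - l, by omega⟩, Fin.ext (by show i.val - l + l = i.val; omega)⟩
      · rintro ⟨j, rfl⟩
        show l ≤ j.val + l
        omega
    rw [h1, Finset.card_map, Finset.card_univ, Fintype.card_fin]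
  · rw [Nat.sub_eq_zero_of_le h, Finset.card_eq_zero, Finset.filter_eq_empty_iff]
    intro i _
    omega

/-- **An element of `L_p°(PSU n F q)`.** -/
theorem lpo (hF : Fintype.card F = q ^ 2) {k : ℕ} (hq : q = 2 ^ k) (hn : 6 ≤ n) (h27 : ¬ (q = 2 ∧ n ≤ 7))
    {p : ℕ} (hp : p.Prime) (hp2 : p ≠ 2) (hr : PRankAtLeast p 4 (PSU n F q))
    {P : ∀ (K : Type u) [Group K], Prop}
    (hP : ∀ (A B : Type u) [Group A] [Group B], (A ≃* B) → P A → P B)
    (h : ∀ m : ℕ, 4 ≤ m → (p = 3 → ¬ (q = 2 ∧ m ≤ 6)) → ∀ (X : Type u) [Group X] [Finite X], IsQuasisimple X →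
      IsPGroup p ↥(center X) → ¬ PRankLE p 1 X → Nonempty (X ⧸ center X ≃* PSU m F q) → P X) :
    LpoExists p (PSU n F q) P := by
  classical
  have hfp : Fact p.Prime := ⟨hp⟩
  have hq2 := two_le hF
  by_cases hpq : p ∣ q + 1
  · obtain ⟨u, hu⟩ := exists_root hF hpq
    set c : F := (u : F) with hc
    have hcp : c ^ p = 1 := by
      rw [hc, ← Units.val_pow_eq_pow_val, ← hu, pow_orderOf_eq_one, Units.val_one]
    have hc0 : c ≠ 0 := u.ne_zero
    have hc1 : c ≠ 1 := by
      intro h1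
      have h2 : u = 1 := Units.ext h1
      rw [h2, orderOf_one] at hu
      exact hp.one_lt.ne hu
    by_cases h8 : q = 2 ∧ n = 8
    · -- `U_8(2)`
      obtain ⟨rfl, rfl⟩ := h8
      have hp3 : p = 3 := (Nat.prime_dvd_prime_iff_eq hp Nat.prime_three).1 hpq
      subst hp3
      set a : Fin 8 → F := fun i => if i.val = 0 then c ^ 2 else c with ha
      have hap : ∀ i, a i ^ 3 = 1 := by
        intro i
        rw [ha]
        by_cases hi : i.val = 0
        · simp only [if_pos hi]
          rw [← pow_mul, mul_comm, pow_mul, hcp, one_pow]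
        · simp only [if_neg hi]
          exact hcp
      have hd : ∏ i, a i = 1 := by
        rw [Fin.prod_univ_eight, ha]
        have h9 : c ^ 2 * c * c * c * c * c * c * c = (c ^ 3) ^ 3 := by ring
        show c ^ 2 * c * c * c * c * c * c * c = 1
        rw [h9, hcp, one_pow]
      refine lpo_diag hF (by norm_num) (by norm_num) hpq a hd hap hap (c := c)
        (Finset.univ.filter fun i => 1 ≤ i.val) ?_ ?_ (card_filter_ge 8 1) (by norm_num) (by norm_num) (by norm_num) ?_
        hP (h _ (by norm_num) (by norm_num))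
      · intro i hi
        rw [Finset.mem_filter] at hi
        rw [ha]
        simp only [if_neg (show ¬ i.val = 0 by omega)]
      · intro i hi
        rw [Finset.mem_filter] at hi
        have hi0 : i.val = 0 := by
          by_contra hcon
          exact hi ⟨Finset.mem_univ _, by omega⟩
        rw [ha]
        simp only [if_pos hi0]
        intro h2
        rw [pow_two] at h2
        exact hc1 (mul_right_cancel₀ hc0 (by rw [h2, one_mul]))
      · intro g hg
        rw [← map_mul, ← map_mul] at hg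
        obtain ⟨z, hz, hz1⟩ := exists_center_mul hg
        have hz0 : z = 1 := by
          obtain ⟨d, hdn, hdq, rfl⟩ := (mem_center_SU_iff hF (by norm_num) z).1 hz
          have hd1 : d = 1 := by
            have h1 : d ^ 9 = 1 := by
              rw [show (9 : ℕ) = 3 * 3 by norm_num, pow_mul, hdq, one_pow]
            rw [pow_succ, hdn, one_mul] at h1
            exact h1
          apply ext_act
          intro v
          rw [act_suScalar, hd1, one_smul, act_one]
        rw [hz1, hz0, mul_one]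
    · -- `diag(c, c⁻¹, 1, ..., 1)`
      have hm7 : q = 2 → 7 ≤ n - 2 := by
        intro h2
        have h3 : ¬ n = 8 := fun h4 => h8 ⟨h2, h4⟩
        have h4 : ¬ n ≤ 7 := fun h5 => h27 ⟨h2, h5⟩
        omega
      set a : Fin n → F := fun i => if i.val = 0 then c else if i.val = 1 then c⁻¹ else 1 with ha
      have ha0 : a ⟨0, by omega⟩ = c := rfl
      have ha1 : a ⟨1, by omega⟩ = c⁻¹ := rfl
      have ha2 : ∀ i : Fin n, 2 ≤ i.val → a i = 1 := by
        intro i hi
        rw [ha]
        simp only [if_neg (show ¬ i.val = 0 by omega), if_neg (show ¬ i.val = 1 by omega)]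
      have hcases : ∀ i : Fin n, i = ⟨0, by omega⟩ ∨ i = ⟨1, by omega⟩ ∨ 2 ≤ i.val := by
        intro i
        rcases Nat.lt_or_ge i.val 2 with h1 | h1
        · rcases Nat.lt_or_ge i.val 1 with h2 | h2
          · exact Or.inl (Fin.ext (by show i.val = 0; omega))
          · exact Or.inr (Or.inl (Fin.ext (by show i.val = 1; omega)))
        · exact Or.inr (Or.inr h1)
      have hap : ∀ i, a i ^ p = 1 := by
        intro i
        rcases hcases i with rfl | rfl | hi
        · rw [ha0, hcp]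
        · rw [ha1, inv_pow, hcp, inv_one]
        · rw [ha2 i hi, one_pow]
      have haq : ∀ i, a i ^ (q + 1) = 1 := by
        intro i
        obtain ⟨j, hj⟩ := hpq
        rw [hj, pow_mul, hap, one_pow]
      have hd : ∏ i, a i = 1 := by
        rw [Finset.prod_eq_mul (⟨0, by omega⟩ : Fin n) ⟨1, by omega⟩ (by
          intro h1
          exact zero_ne_one (congrArg Fin.val h1))]
        · rw [ha0, ha1, mul_inv_cancel₀ hc0]
        · rintro i - ⟨h1, h2⟩
          rcases hcases i with h3 | h3 | hi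
          · exact absurd h3 h1
          · exact absurd h3 h2
          · exact ha2 i hi
        · intro h1
          exact absurd (Finset.mem_univ _) h1
        · intro h1
          exact absurd (Finset.mem_univ _) h1
      have hS : ∀ i : Fin n, i ∈ (Finset.univ.filter fun i : Fin n => 2 ≤ i.val) ↔ a i = 1 := by
        intro i
        rw [Finset.mem_filter]
        constructor
        · rintro ⟨-, hi⟩
          exact ha2 i hi
        · intro h1
          refine ⟨Finset.mem_univ _, ?_⟩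
          rcases hcases i with rfl | rfl | hi
          · rw [ha0] at h1
            exact absurd h1 hc1
          · rw [ha1, inv_eq_one] at h1
            exact absurd h1 hc1
          · exact hi
      refine lpo_diag hF hn hp2 hpq a hd hap haq (c := 1)
        (Finset.univ.filter fun i => 2 ≤ i.val) (fun i hi => (hS i).1 hi) (fun i hi h1 => hi ((hS i).2 h1))
        (card_filter_ge n 2) (by omega) ?_ (by omega) ?_ hP (h _ (by omega) ?_)
      · rintro ⟨h1, h2⟩
        have := hm7 h2
        omega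
      · intro g hg
        refine comm_of_dim hF (by omega) ?_ hg
        have h1 : cU F (Finset.univ.filter fun i : Fin n => 2 ≤ i.val) ≤ fx (suDiag q a hd haq) := by
          intro v hv
          rw [mem_fx]
          funext i
          rw [act_suDiag]
          by_cases hi : i ∈ (Finset.univ.filter fun i : Fin n => 2 ≤ i.val)
          · rw [(hS i).1 hi, one_mul]
          · rw [hv i hi, mul_zero]
        have h2 := Submodule.finrank_mono h1
        rw [finrank_cU, card_filter_ge] at h2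
        omega
      · rintro - ⟨h1, h2⟩
        have := hm7 h1
        omega
  · have hchar : CharP F 2 := by
      have h2 : Fact (Nat.Prime 2) := ⟨Nat.prime_two⟩
      exact charP_of_card_eq_prime_pow (f := k * 2) (by rw [hF, hq, ← pow_mul])
    have hpF : (p : F) ≠ 0 := by
      intro h1
      rw [CharP.cast_eq_zero_iff F 2] at h1
      exact hp2 ((Nat.prime_dvd_prime_iff_eq Nat.prime_two hp).1 h1).symm
    refine lpo_coprime hF (by omega) hp2 hpF ((Nat.Prime.coprime_iff_not_dvd hp).2 hpq) hr hP ?_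
    intro m hm6 hmn
    refine h m (by omega) ?_
    rintro rfl ⟨rfl, -⟩
    exact hpq (by norm_num)

end Cfsg.Agent.GpUn

end

-- merged: Cfsg.Agent.GpUn.Row
section

/-!
# `U_n(q)`, `q` even, is of generic type at every odd prime of `p`-rank at least four (helper72)

`NonIso` : the fact about isomorphism types (proved in `NotCT`): `U_m(q)`, `m ≥ 4`, `q` even, not `U_4(2)`, `U_5(2)`,
`U_6(2)` if `p = 3`, of `p`-rank at least two, is not (the central quotient of) a `C_p`-group or a `T_p`-group, `p` odd;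
`exists_gp`, `not_ct` : the element of `L_p°(G)`;
`row` : the row `psu` of `SigTab.NotCTRows`.
-/

set_option autoImplicit false

namespace Cfsg.Agent.GpUn.Row

open Cfsg Subgroup
open Cfsg.Agent.LieClassical.HermBasic

universe u v

/-- transport of "some element of `L_p°(X)`" -/
theorem lpoExists_congr {X : Type u} {Y : Type v} [Group X] [Group Y] {p : ℕ} (e : X ≃* Y)
    {P : ∀ (K : Type u) [Group K], Prop} {Q : ∀ (K : Type v) [Group K], Prop}
    (hPQ : ∀ (A : Type u) (B : Type v) [Group A] [Group B], (A ≃* B) → P A → Q B) (h : LpoExists p X P) :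
    LpoExists p Y Q := by
  obtain ⟨x, hx, hr, K, hK, hP⟩ := h
  have hc : (centralizer ({x} : Set X)).map e.toMonoidHom = centralizer ({e x} : Set Y) := by
    ext z
    constructor
    · rintro ⟨g, hg, rfl⟩
      rw [SetLike.mem_coe, mem_centralizer_singleton_iff] at hg
      rw [mem_centralizer_singleton_iff]
      change e g * e x = e x * e g
      rw [← map_mul, hg, map_mul]
    · intro hz
      rw [mem_centralizer_singleton_iff] at hz
      refine ⟨e.symm z, ?_, e.apply_symm_apply z⟩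
      rw [SetLike.mem_coe, mem_centralizer_singleton_iff]
      apply e.injective
      rw [map_mul, map_mul, e.apply_symm_apply, hz]
  let ec : ↥(centralizer ({x} : Set X)) ≃* ↥(centralizer ({e x} : Set Y)) :=
    ((centralizer ({x} : Set X)).equivMapOfInjective e.toMonoidHom e.injective).trans (MulEquiv.subgroupCongr hc)
  refine ⟨e x, by rw [MulEquiv.orderOf_eq, hx], CpQuot.Congr.prankAtLeast_of ec hr,
    K.map (LThree.quo p ec).toMonoidHom, LThree.isComponent_map _ hK, ?_⟩
  exact hPQ _ _ (K.equivMapOfInjective (LThree.quo p ec).toMonoidHom (LThree.quo p ec).injective) hP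

/-- **The fact about isomorphism types.** -/
def NonIso : Prop :=
  ∀ (F : Type) [Field F] [Fintype F] (q m p : ℕ), Fintype.card F = q ^ 2 → Even q → 4 ≤ m →
    (p = 3 → ¬ (q = 2 ∧ m ≤ 6)) → p.Prime → p ≠ 2 → ∀ (X : Type u) [Group X] [Finite X], ¬ PRankLE p 1 X →
      Nonempty (X ⧸ center X ≃* PSU m F q) → ¬ InC p X ∧ ¬ InT p X

section main

variable {F : Type} [Field F] [Fintype F] {q n p : ℕ}

theorem exists_two_pow (hF : Fintype.card F = q ^ 2) (hq : Even q) : ∃ k : ℕ, q = 2 ^ k := by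
  obtain ⟨r, k, hr, -, hk, hk0⟩ := exists_prime_pow hF
  have h1 : 2 ∣ r ^ k := by
    rw [← hk]
    exact hq.two_dvd
  have h2 := (Nat.prime_dvd_prime_iff_eq Nat.prime_two hr).1 (Nat.prime_two.dvd_of_dvd_pow h1)
  exact ⟨k, by rw [h2, hk]⟩

/-- an element of `L_p°` in `G_p`, for `PSU n F q` itself -/
theorem exists_gp_psu (hNI : NonIso.{0}) (hF : Fintype.card F = q ^ 2) (hq : Even q) (hn : 6 ≤ n)
    (hn2 : q = 2 → 8 ≤ n) (hp : p.Prime) (hp2 : p ≠ 2) (h : PRankAtLeast p 4 (PSU n F q)) :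
    LpoExists p (PSU n F q) (InGp p) := by
  obtain ⟨k, hk⟩ := exists_two_pow hF hq
  refine lpo hF hk hn (fun h1 => ?_) hp hp2 h (fun A B _ _ e hA => (OddTab.inGp_iff e p).1 hA) ?_
  · have := hn2 h1.1
    omega
  · intro m hm h3 X _ _ hX hz hr e
    obtain ⟨h1, h2⟩ := hNI F q m p hF hq hm h3 hp hp2 X hr e
    refine ⟨hX, hz, ?_, h1, h2⟩
    right; right; right; right; left
    exact ⟨F, inferInstance, inferInstance, m, q, hF, by omega, by omega, e⟩

variable {G : Type u} [Group G]

/-- an element of `L_p°(G)` in `G_p` -/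
theorem exists_gp (hNI : NonIso.{0}) (hF : Fintype.card F = q ^ 2) (hq : Even q) (hn : 6 ≤ n)
    (hn2 : q = 2 → 8 ≤ n) (hp : p.Prime) (hp2 : p ≠ 2) (e : G ≃* PSU n F q) (h : PRankAtLeast p 4 G) :
    LpoExists p G (InGp p) :=
  lpoExists_congr e.symm (fun _ _ _ _ e' hA => (OddTab.inGp_iff e' p).1 hA)
    (exists_gp_psu hNI hF hq hn hn2 hp hp2 (CpQuot.Congr.prankAtLeast_of e h))

theorem not_ct (hNI : NonIso.{0}) (hF : Fintype.card F = q ^ 2) (hq : Even q) (hn : 6 ≤ n)
    (hn2 : q = 2 → 8 ≤ n) (hp : p.Prime) (hp2 : p ≠ 2) (e : G ≃* PSU n F q) (h : PRankAtLeast p 4 G) :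
    ¬ LpoAll p G (InCT p) := by
  intro hall
  obtain ⟨x, hx, hr, K, hK, hP⟩ := exists_gp hNI hF hq hn hn2 hp hp2 e h
  rcases hall x hx hr K hK with h1 | h1
  · exact hP.2.2.2.1 h1
  · exact hP.2.2.2.2 h1

end main

/-- a group with a subgroup of rank at least `k` has rank at least `k` -/
theorem rank_top {G : Type*} [Group G] {p k : ℕ} {M : Subgroup G} (h : PRankAtLeast p k M) : PRankAtLeast p k G := by
  obtain ⟨A, hA, hAp, hAk⟩ := h
  refine ⟨A.map M.subtype, ⟨⟨?_⟩⟩, ?_, ?_⟩
  · rintro ⟨_, a, ha, rfl⟩ ⟨_, b, hb, rfl⟩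
    apply Subtype.ext
    have h1 : a * b = b * a := congrArg Subtype.val (hA.is_comm.comm ⟨a, ha⟩ ⟨b, hb⟩)
    change M.subtype a * M.subtype b = M.subtype b * M.subtype a
    rw [← map_mul, h1, map_mul]
  · rintro _ ⟨a, ha, rfl⟩
    rw [← map_pow, hAp a ha, map_one]
  · rw [Nat.card_congr (A.equivMapOfInjective M.subtype M.subtype_injective).symm.toEquiv]
    exact hAk

/-- **The row `psu` of `NotCTRows`**, from the fact about isomorphism types. -/
theorem row (hNI : NonIso.{0}) :
    SigTab.NotCT.{u} (fun X _ => SigTab.PsuEven (fun n q => 6 ≤ n ∧ (q = 2 → 8 ≤ n)) X) := by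
  rintro G _ _ ⟨F, _, _, n, q, hq, hF, ⟨hn, hn2⟩, ⟨e⟩⟩ p ⟨hp, hp2, S, M, -, hM⟩
  exact not_ct hNI hF hq hn hn2 hp hp2 e (rank_top hM)

end Cfsg.Agent.GpUn.Row

end

private theorem dce_5e2803e1a408 : _root_.True := by
  try have : _root_.True := by simp only [_root_.Cfsg.Agent.LieClassical.SUBasic.suDiag.congr_simp]
  exact _root_.True.intro
end
end
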